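import Mathlib
import Cfsg.Agent.H943.E7V.AdmMain
import Cfsg.Agent.S1265
import Cfsg.Agent.Lib.GenFitting
import Cfsg.Agent.H943.E7V.TorMain
import Cfsg.Agent.S1064
import Cfsg.Agent.S1054
import Cfsg.Agent.H597.BrInv
import Cfsg.Agent.LieClassical.SLTwoUnipotent
import Cfsg.Agent.H943.E7V.Iface
import Cfsg.Agent.H102.E7V.Pos_m3
import Cfsg.Agent.CharDeep.LinearChar
import Cfsg.Agent.S0157
import Cfsg.Agent.H183.OutPSL
import Cfsg.Agent.S0813
import Cfsg.Agent.S2119
import Cfsg.Agent.Lib.FastPerm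
import Cfsg.Agent.FastGrp
import Cfsg.Agent.Prune
set_option linter.all false

section
prune_inst 0x7ffeadfbeaa8bddeffff7e3faeb9dffc31808fffe6dff94bffe8eb9f8bdf83060bc1fbad89e010fe1e56623410b87843fb7eeeffe86fd87ffffdbff41ffbee5ff7ffb528519488341ffc6fff9bf0778e7f3fffffffffffffffffffffffffffbeffbfffffffff

-- part: H943/E7V/NoFix
section
prune_inst 0x1100014504000000000405144000008121000000004000005006050200071442000020004a000c0a08008880000000081110002002480000040004000000000000800200a1480000200006002080000000000000000000000000000000041000000000000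
set_option linter.all false
open scoped Cfsg.Agent.FastGrp

-- part: H943/E7V/Large
section
/-!
# Maximal subgroups do not fix vectors of small modules

`E` a finite simple group acting on a finite elementary abelian 2-group `V` without fixed points, `H` a maximal subgroup,
`S` a normal subgroup of `H` of index dividing `3 * 2 ^ k` fixing a vector `v ≠ 0`: then `|E| ≤ |H| |V| ^ 2` (`large`).
-/

set_option autoImplicit false
set_option linter.unusedSectionVars false

namespace Cfsg.Agent.H943.E7V.Large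

open MulAction Pointwise

variable {E : Type*} [Group E] [Finite E] {V : Type*} [AddCommGroup V] [Finite V] [DistribMulAction E V]

/-- the vectors fixed by `S` -/
def fixW {H : Subgroup E} (S : Subgroup H) (V : Type*) [AddCommGroup V] [DistribMulAction E V] : AddSubgroup V where
  carrier := {v | ∀ s ∈ S, (s : E) • v = v}
  zero_mem' s _ := smul_zero _
  add_mem' ha hb s hs := by rw [smul_add, ha s hs, hb s hs]
  neg_mem' ha s hs := by rw [smul_neg, ha s hs]

/-- the action of `H` on the vectors fixed by `S` -/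
@[reducible] def actW {H : Subgroup E} (S : Subgroup H) [S.Normal] : MulAction ↥H ↥(fixW S V) where
  smul h w := ⟨(h : E) • (w : V), fun s hs => by
    have h1 : h⁻¹ * s * h ∈ S := by
      have := Subgroup.Normal.conj_mem (inferInstance : S.Normal) s hs h⁻¹
      rwa [inv_inv] at this
    have h2 := w.2 _ h1
    have h3 : (s : E) * (h : E) = (h : E) * ((h⁻¹ * s * h : ↥H) : E) := by
      push_cast
      group
    rw [← mul_smul, h3, mul_smul, h2]⟩
  one_smul w := Subtype.ext (one_smul E (w : V))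
  mul_smul a b w := Subtype.ext (mul_smul (a : E) (b : E) (w : V))

theorem card_le_of_fixed {H : Subgroup E} (hH : IsCoatom H) (hfix : ∀ v : V, (∀ g : E, g • v = v) → v = 0) {w : V}
    (hw : w ≠ 0) (hHw : ∀ h ∈ H, h • w = w) : Nat.card E ≤ Nat.card H * Nat.card V := by
  have h1 : H ≤ stabilizer E w := fun h hh => hHw h hh
  have h2 : stabilizer E w ≠ ⊤ := by
    intro h
    refine hw (hfix w fun g => ?_)
    have : g ∈ stabilizer E w := by rw [h]; exact Subgroup.mem_top g
    exact this
  have h3 : stabilizer E w = H := by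
    rcases hH.le_iff.1 h1 with h | h
    · exact absurd h h2
    · exact h
  have h4 := Subgroup.card_mul_index (stabilizer E w)
  rw [h3] at h4
  have h5 : H.index = Nat.card (orbit E w) := by
    rw [← h3, index_stabilizer]; rfl
  rw [← h4, h5]
  exact Nat.mul_le_mul_left _ (Finite.card_subtype_le _)

/-- **Large stabilizers**, the case of a 2-group of outer automorphisms. -/
theorem large_two (h2 : ∀ v : V, v + v = 0)
    (hfix : ∀ v : V, (∀ g : E, g • v = v) → v = 0) {H : Subgroup E} (hH : IsCoatom H) (S : Subgroup H) [S.Normal]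
    {k : ℕ} (hk : S.index ∣ 2 ^ k) {v : V} (hv : v ≠ 0) (hSv : ∀ s ∈ S, (s : E) • v = v) :
    Nat.card E ≤ Nat.card H * Nat.card V := by
  classical
  letI := actW (V := V) S
  let P : Sylow 2 ↥H := default
  have hP2 : IsPGroup 2 ↥P := P.2
  have h2W : 2 ∣ Nat.card ↥(fixW S V) := by
    have h3 : addOrderOf (⟨v, hSv⟩ : ↥(fixW S V)) = 2 := by
      refine addOrderOf_eq_prime ?_ ?_
      · rw [two_nsmul]
        exact Subtype.ext (h2 v)
      · intro h
        exact hv (congrArg Subtype.val h)
    rw [← h3]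
    exact addOrderOf_dvd_natCard _
  have h0 : (0 : ↥(fixW S V)) ∈ fixedPoints ↥P ↥(fixW S V) := by
    intro p
    exact Subtype.ext (smul_zero _)
  obtain ⟨w, hw, hw0⟩ := hP2.exists_fixed_point_of_prime_dvd_card_of_fixed_point ↥(fixW S V) h2W h0
  have hPw : (P : Subgroup ↥H) ≤ stabilizer ↥H w := fun p hp => hw ⟨p, hp⟩
  have hSw : S ≤ stabilizer ↥H w := fun s hs => Subtype.ext (w.2 s hs)
  have hidx : (stabilizer ↥H w).index = 1 := by
    have h3 : (stabilizer ↥H w).index ∣ 2 ^ k := (Subgroup.index_dvd_of_le hSw).trans hk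
    have h4 : (stabilizer ↥H w).index ∣ (P : Subgroup ↥H).index := Subgroup.index_dvd_of_le hPw
    have h5 : ¬ 2 ∣ (stabilizer ↥H w).index := fun h => P.not_dvd_index (h.trans h4)
    exact Nat.Coprime.eq_one_of_dvd
      (((Nat.Prime.coprime_iff_not_dvd Nat.prime_two).2 h5).symm.pow_right k) h3
  have hw0' : (w : V) ≠ 0 := fun h => hw0 (Subtype.ext h).symm
  refine card_le_of_fixed hH hfix hw0' fun h hh => ?_
  have h3 : (⟨h, hh⟩ : ↥H) ∈ stabilizer ↥H w := by
    rw [Subgroup.index_eq_one.1 hidx]; exact Subgroup.mem_top _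
  exact congrArg Subtype.val h3

/-- **Large stabilizers.** -/
theorem large [IsSimpleGroup E] (hE : 6 < Nat.card E) (h2 : ∀ v : V, v + v = 0)
    (hfix : ∀ v : V, (∀ g : E, g • v = v) → v = 0) {H : Subgroup E} (hH : IsCoatom H) (S : Subgroup H) [S.Normal]
    {k : ℕ} (hk : S.index ∣ 3 * 2 ^ k) {v : V} (hv : v ≠ 0) (hSv : ∀ s ∈ S, (s : E) • v = v) :
    Nat.card E ≤ Nat.card H * Nat.card V ^ 2 := by
  classical
  have hV : 0 < Nat.card V := Nat.card_pos
  have hle : ∀ n : ℕ, n * Nat.card V ≤ n * Nat.card V ^ 2 := fun n =>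
    Nat.mul_le_mul_left _ (by nlinarith)
  letI := actW (V := V) S
  let P : Sylow 2 ↥H := default
  have hP2 : IsPGroup 2 ↥P := P.2
  -- a vector fixed by a Sylow 2-subgroup
  have h2W : 2 ∣ Nat.card ↥(fixW S V) := by
    have h3 : addOrderOf (⟨v, hSv⟩ : ↥(fixW S V)) = 2 := by
      refine addOrderOf_eq_prime ?_ ?_
      · rw [two_nsmul]
        exact Subtype.ext (h2 v)
      · intro h
        exact hv (congrArg Subtype.val h)
    rw [← h3]
    exact addOrderOf_dvd_natCard _
  have h0 : (0 : ↥(fixW S V)) ∈ fixedPoints ↥P ↥(fixW S V) := by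
    intro p
    exact Subtype.ext (smul_zero _)
  obtain ⟨w, hw, hw0⟩ := hP2.exists_fixed_point_of_prime_dvd_card_of_fixed_point ↥(fixW S V) h2W h0
  have hPw : (P : Subgroup ↥H) ≤ stabilizer ↥H w := fun p hp => hw ⟨p, hp⟩
  have hSw : S ≤ stabilizer ↥H w := fun s hs => Subtype.ext (w.2 s hs)
  have hidx : (stabilizer ↥H w).index ∣ 3 := by
    have h3 : (stabilizer ↥H w).index ∣ 3 * 2 ^ k := (Subgroup.index_dvd_of_le hSw).trans hk
    have h4 : (stabilizer ↥H w).index ∣ (P : Subgroup ↥H).index := Subgroup.index_dvd_of_le hPw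
    have h5 : ¬ 2 ∣ (stabilizer ↥H w).index := fun h => P.not_dvd_index (h.trans h4)
    exact (Nat.Coprime.dvd_of_dvd_mul_right
      (((Nat.Prime.coprime_iff_not_dvd Nat.prime_two).2 h5).symm.pow_right k) h3)
  have hw0' : (w : V) ≠ 0 := fun h => hw0 (Subtype.ext h).symm
  by_cases hone : ∀ h ∈ H, h • (w : V) = w
  · exact (card_le_of_fixed hH hfix hw0' hone).trans (hle _)
  have hthree : (stabilizer ↥H w).index = 3 := by
    rcases (Nat.dvd_prime Nat.prime_three).1 hidx with h | h
    · exfalso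
      apply hone
      intro h' hh'
      have h3 : (⟨h', hh'⟩ : ↥H) ∈ stabilizer ↥H w := by
        rw [Subgroup.index_eq_one.1 h]; exact Subgroup.mem_top _
      exact congrArg Subtype.val h3
    · exact h
  -- the orbit
  let O : Set V := Set.range fun h : ↥H => (h : E) • (w : V)
  have hO3 : Nat.card ↥O = 3 := by
    rw [← hthree, index_stabilizer]
    have h3 : O = Subtype.val '' (orbit ↥H w) := by
      ext x
      constructor
      · rintro ⟨h, rfl⟩
        exact ⟨h • w, ⟨h, rfl⟩, rfl⟩
      · rintro ⟨y, ⟨h, rfl⟩, rfl⟩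
        exact ⟨h, rfl⟩
    rw [h3]
    exact Nat.card_image_of_injective Subtype.val_injective _
  have hOH : ∀ h ∈ H, ∀ x ∈ O, h • x ∈ O := by
    rintro h hh _ ⟨h', rfl⟩
    refine ⟨⟨h, hh⟩ * h', ?_⟩
    show ((⟨h, hh⟩ * h' : ↥H) : E) • (w : V) = h • (h' : E) • (w : V)
    rw [← mul_smul]
    rfl
  have hwO : (w : V) ∈ O := ⟨1, one_smul E _⟩
  let F : Finset V := O.toFinite.toFinset
  have hF : ∀ x, x ∈ F ↔ x ∈ O := fun x => Set.Finite.mem_toFinset _
  have hF3 : F.card = 3 := by
    rw [← hO3, Nat.card_coe_set_eq, Set.ncard_eq_toFinset_card O O.toFinite]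
  have hsum : ∀ h ∈ H, h • (∑ x ∈ F, x) = ∑ x ∈ F, x := by
    intro h hh
    rw [Finset.smul_sum]
    have himg : F.image (fun x => h • x) = F := by
      refine Finset.eq_of_subset_of_card_le ?_ ?_
      · intro y hy
        obtain ⟨x, hx, rfl⟩ := Finset.mem_image.1 hy
        exact (hF _).2 (hOH h hh x ((hF x).1 hx))
      · rw [Finset.card_image_of_injective _ (MulAction.injective h)]
    conv_rhs => rw [← himg]
    rw [Finset.sum_image fun x _ y _ hxy => MulAction.injective h hxy]
  by_cases hs : ∑ x ∈ F, x = 0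
  swap
  · exact (card_le_of_fixed hH hfix hs hsum).trans (hle _)
  -- the sum is zero
  have hHO : H ≤ stabilizer E O := by
    intro h hh
    rw [mem_stabilizer_iff]
    ext y
    rw [Set.mem_smul_set]
    constructor
    · rintro ⟨x, hx, rfl⟩
      exact hOH h hh x hx
    · intro hy
      exact ⟨h⁻¹ • y, hOH _ (inv_mem hh) y hy, smul_inv_smul h y⟩
  have hO : ∀ {g : E}, g ∈ stabilizer E O → ∀ x ∈ O, g • x ∈ O := by
    intro g hg x hx
    rw [mem_stabilizer_iff] at hg
    rw [← hg]
    exact Set.smul_mem_smul_set hx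
  have htop : stabilizer E O ≠ ⊤ := by
    intro h
    let A : SubMulAction E V := ⟨O, fun g {x} hx => hO (by rw [h]; exact Subgroup.mem_top g) x hx⟩
    let f : E →* Equiv.Perm ↥A := MulAction.toPermHom E ↥A
    have hA : Nat.card ↥A = 3 := hO3
    rcases (inferInstance : f.ker.Normal).eq_bot_or_eq_top with hk | hk
    · have h3 : Nat.card E ≤ Nat.card (Equiv.Perm ↥A) :=
        Nat.card_le_card_of_injective f ((MonoidHom.ker_eq_bot_iff f).1 hk)
      rw [Nat.card_perm, hA] at h3
      have : Nat.factorial 3 = 6 := rfl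
      omega
    · apply hw0'
      apply hfix
      intro g
      have h3 : g ∈ f.ker := by rw [hk]; exact Subgroup.mem_top g
      have h4 := DFunLike.congr_fun (MonoidHom.mem_ker.1 h3) (⟨(w : V), hwO⟩ : ↥A)
      exact congrArg Subtype.val h4
  have hHeq : stabilizer E O = H := by
    rcases hH.le_iff.1 hHO with h | h
    · exact absurd h htop
    · exact h
  obtain ⟨a, b, c, hab, hac, hbc, hFabc⟩ := Finset.card_eq_three.1 hF3
  have hs' : a + (b + c) = 0 := by
    rw [hFabc, Finset.sum_insert (by simp [hab, hac]), Finset.sum_pair hbc] at hs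
    exact hs
  have hc : c = a + b := by
    have h3 := h2 (a + b)
    have h4 : a + b + c = 0 := by rw [add_assoc]; exact hs'
    have h5 : a + b + c = (a + b) + (a + b) := by rw [h3, h4]
    exact add_left_cancel h5
  have hmem : ∀ x, x ∈ O ↔ x = a ∨ x = b ∨ x = c := by
    intro x
    rw [← hF, hFabc]
    simp
  have hC : stabilizer E ((a, b) : V × V) ≤ stabilizer E O := by
    intro g hg
    rw [mem_stabilizer_iff, Prod.smul_mk, Prod.mk.injEq] at hg
    have hgc : g • c = c := by rw [hc, smul_add, hg.1, hg.2]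
    have hgx : ∀ x ∈ O, g • x = x := by
      intro x hx
      rcases (hmem x).1 hx with rfl | rfl | rfl
      · exact hg.1
      · exact hg.2
      · exact hgc
    rw [mem_stabilizer_iff]
    ext y
    rw [Set.mem_smul_set]
    constructor
    · rintro ⟨x, hx, rfl⟩
      rw [hgx x hx]; exact hx
    · intro hy
      exact ⟨y, hy, hgx y hy⟩
  have h4 := Subgroup.card_mul_index (stabilizer E ((a, b) : V × V))
  have h5 : (stabilizer E ((a, b) : V × V)).index ≤ Nat.card V ^ 2 := by
    rw [index_stabilizer]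
    refine (Finite.card_subtype_le _).trans ?_
    rw [Nat.card_prod, pow_two]
  have h6 : Nat.card ↥(stabilizer E ((a, b) : V × V)) ≤ Nat.card ↥H := by
    rw [← hHeq]
    exact Nat.card_le_card_of_injective _ (Subgroup.inclusion_injective hC)
  rw [← h4]
  exact Nat.mul_le_mul h6 h5

end Cfsg.Agent.H943.E7V.Large
end

-- part: H943/E7V/NoFix
section
/-!
# Groups of matrices without fixed vectors and functionals
-/

set_option autoImplicit false
set_option linter.unusedSectionVars false

namespace Cfsg.Agent.H943.E7V.NoFix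

open Module Cfsg.Agent.H943.E7V.AdmMain

/-- the group has no fixed vectors and no fixed functionals -/
def NoFix {S : Type*} [Group S] {ι : Type*} [Fintype ι] [DecidableEq ι] {F : Type*} [Field F] (R : S →* Matrix ι ι F) : Prop :=
  (∀ v : ι → F, (∀ s, (R s).mulVec v = v) → v = 0) ∧ (∀ v : ι → F, (∀ s, Matrix.vecMul v (R s) = v) → v = 0)

section act

variable {E : Type*} [Group E] {ι : Type*} [Fintype ι] [DecidableEq ι] (R : E →* Matrix ι ι (ZMod 2))

/-- the action on vectors -/
@[reducible] def actM : DistribMulAction E (ι → ZMod 2) where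
  smul g v := (R g).mulVec v
  one_smul v := by
    show (R 1).mulVec v = v
    rw [map_one, Matrix.one_mulVec]
  mul_smul a b v := by
    show (R (a * b)).mulVec v = (R a).mulVec ((R b).mulVec v)
    rw [map_mul, Matrix.mulVec_mulVec]
  smul_zero g := Matrix.mulVec_zero _
  smul_add g v w := Matrix.mulVec_add _ _ _

/-- the action on functionals -/
@[reducible] def actD : DistribMulAction E (ι → ZMod 2) where
  smul g v := Matrix.vecMul v (R g⁻¹)
  one_smul v := by
    show Matrix.vecMul v (R 1⁻¹) = v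
    rw [inv_one, map_one, Matrix.vecMul_one]
  mul_smul a b v := by
    show Matrix.vecMul v (R (a * b)⁻¹) = Matrix.vecMul (Matrix.vecMul v (R b⁻¹)) (R a⁻¹)
    rw [mul_inv_rev, map_mul, Matrix.vecMul_vecMul]
  smul_zero g := Matrix.zero_vecMul _
  smul_add g v w := Matrix.add_vecMul _ _ _

variable [Finite E]

theorem card_vec : Nat.card (ι → ZMod 2) = 2 ^ Fintype.card ι := by
  rw [Nat.card_eq_fintype_card, Fintype.card_fun, ZMod.card]

theorem add_self_vec (v : ι → ZMod 2) : v + v = 0 := by
  funext i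
  exact CharTwo.add_self_eq_zero (v i)

theorem noFix_two (hfix : NoFix R) {H : Subgroup E} (hH : IsCoatom H) (S : Subgroup H) [S.Normal]
    {k : ℕ} (hk : S.index ∣ 2 ^ k) (hb : Nat.card H * 2 ^ Fintype.card ι < Nat.card E) :
    NoFix (R.comp (H.subtype.comp S.subtype)) := by
  constructor
  · intro v hv
    by_contra h0
    letI := actM R
    have h1 := Large.large_two (E := E) (V := ι → ZMod 2) add_self_vec (fun v hv => hfix.1 v hv) hH S hk h0
      (fun s hs => hv ⟨s, hs⟩)
    rw [card_vec] at h1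
    omega
  · intro v hv
    by_contra h0
    letI := actD R
    have h1 := Large.large_two (E := E) (V := ι → ZMod 2) add_self_vec (fun v hv => hfix.2 v fun s => by
      have := hv s⁻¹
      have h2 : Matrix.vecMul v (R s⁻¹⁻¹) = v := this
      rwa [inv_inv] at h2) hH S hk h0
      (fun s hs => by
        have h2 : Matrix.vecMul v (R ((s : E))⁻¹) = v := hv ⟨s⁻¹, inv_mem hs⟩
        exact h2)
    rw [card_vec] at h1
    omega

theorem noFix_three [IsSimpleGroup E] (hE : 6 < Nat.card E) (hfix : NoFix R) {H : Subgroup E} (hH : IsCoatom H)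
    (S : Subgroup H) [S.Normal] {k : ℕ} (hk : S.index ∣ 3 * 2 ^ k)
    (hb : Nat.card H * (2 ^ Fintype.card ι) ^ 2 < Nat.card E) :
    NoFix (R.comp (H.subtype.comp S.subtype)) := by
  constructor
  · intro v hv
    by_contra h0
    letI := actM R
    have h1 := Large.large (E := E) (V := ι → ZMod 2) hE add_self_vec (fun v hv => hfix.1 v hv) hH S hk h0
      (fun s hs => hv ⟨s, hs⟩)
    rw [card_vec] at h1
    omega
  · intro v hv
    by_contra h0
    letI := actD R
    have h1 := Large.large (E := E) (V := ι → ZMod 2) hE add_self_vec (fun v hv => hfix.2 v fun s => by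
      have := hv s⁻¹
      have h2 : Matrix.vecMul v (R s⁻¹⁻¹) = v := this
      rwa [inv_inv] at h2) hH S hk h0
      (fun s hs => by
        have h2 : Matrix.vecMul v (R ((s : E))⁻¹) = v := hv ⟨s⁻¹, inv_mem hs⟩
        exact h2)
    rw [card_vec] at h1
    omega

end act

section ext

variable {ι : Type*} [Fintype ι] [DecidableEq ι] {F₀ : Type*} [Field F₀] {K : Type*} [Field K] [Algebra F₀ K]
  {S : Type*} [Group S]

theorem noFix_equiv {S T : Type*} [Group S] [Group T] {R : S →* Matrix ι ι F₀} (h : NoFix R) (e : T ≃* S) :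
    NoFix (R.comp (e : T →* S)) := by
  constructor
  · intro v hv
    refine h.1 v fun s => ?_
    have := hv (e.symm s)
    simpa using this
  · intro v hv
    refine h.2 v fun s => ?_
    have := hv (e.symm s)
    simpa using this

/-- **No fixed vectors after an extension of the field.** -/
theorem ext_vec {R : S →* Matrix ι ι F₀} (h : NoFix R) {n : ℕ} (e : ι ≃ Fin n) {v : Fin n → K}
    (hv : ∀ s, matRep K R e s v = v) : v = 0 := by
  by_contra h0
  obtain ⟨i, hi⟩ := Function.ne_iff.1 h0
  have h1 : ∃ l : Module.Dual F₀ K, l (v i) ≠ 0 := by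
    by_contra hcon
    push Not at hcon
    exact hi ((Module.forall_dual_apply_eq_zero_iff F₀ (v i)).1 hcon)
  obtain ⟨l, hl⟩ := h1
  have h2 := h.1 (fun a => l (v (e a))) fun s => by
    funext a
    have h3 := congrFun (hv s) (e a)
    rw [matRep_apply, Matrix.toLin'_apply, Matrix.mulVec, dotProduct] at h3
    rw [Matrix.mulVec, dotProduct]
    conv_rhs => rw [← h3, map_sum, ← Equiv.sum_comp e]
    refine Finset.sum_congr rfl fun b _ => ?_
    rw [Matrix.reindex_apply, Matrix.submatrix_apply, Matrix.map_apply, Equiv.symm_apply_apply,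
      Equiv.symm_apply_apply, ← Algebra.smul_def, map_smul, smul_eq_mul]
  have h3 := congrFun h2 (e.symm i)
  simp only [Equiv.apply_symm_apply, Pi.zero_apply] at h3
  exact hl h3

theorem ext_fun {R : S →* Matrix ι ι F₀} (h : NoFix R) {n : ℕ} (e : ι ≃ Fin n) {f : Module.Dual K (Fin n → K)}
    (hf : ∀ s, f ∘ₗ matRep K R e s = f) : f = 0 := by
  classical
  by_contra h0
  have h4 : ∃ i, f (Pi.single i 1) ≠ 0 := by
    by_contra hcon
    push Not at hcon
    exact h0 (LinearMap.pi_ext' fun i => LinearMap.ext_ring (by simpa using hcon i))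
  obtain ⟨i, hi⟩ := h4
  have h1 : ∃ l : Module.Dual F₀ K, l (f (Pi.single i 1)) ≠ 0 := by
    by_contra hcon
    push Not at hcon
    exact hi ((Module.forall_dual_apply_eq_zero_iff F₀ _).1 hcon)
  obtain ⟨l, hl⟩ := h1
  have h2 := h.2 (fun a => l (f (Pi.single (e a) 1))) fun s => by
    funext a
    have h3 := LinearMap.congr_fun (hf s) (Pi.single (e a) 1)
    rw [LinearMap.comp_apply, matRep_apply, Matrix.toLin'_apply] at h3
    have h5 : (Matrix.reindex e e ((R s).map (algebraMap F₀ K))).mulVec (Pi.single (e a) 1) =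
        ∑ b : ι, (algebraMap F₀ K (R s b a)) • (Pi.single (e b) (1 : K) : Fin n → K) := by
      funext j
      rw [Matrix.mulVec_single_one, Finset.sum_apply]
      rw [Finset.sum_eq_single (e.symm j)]
      · simp [Matrix.col]
      · intro b _ hb
        rw [Pi.smul_apply, Pi.single_eq_of_ne (fun h => hb (by rw [h, Equiv.symm_apply_apply])), smul_zero]
      · intro h
        exact absurd (Finset.mem_univ _) h
    rw [h5, map_sum] at h3
    rw [Matrix.vecMul, dotProduct]
    conv_rhs => rw [← h3, map_sum]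
    refine Finset.sum_congr rfl fun b _ => ?_
    rw [map_smul, smul_eq_mul, ← Algebra.smul_def, map_smul, smul_eq_mul, mul_comm]
  have h3 := congrFun h2 (e.symm i)
  simp only [Equiv.apply_symm_apply, Pi.zero_apply] at h3
  exact hl h3

end ext

/-- the index of a normal subgroup containing its centralizer -/
theorem index_dvd {X : Type*} [Group X] [Finite X] (N : Subgroup X) [N.Normal]
    (hC : Subgroup.centralizer (N : Set X) ≤ N) (hZ : Subgroup.center ↥N = ⊥) {m : ℕ}
    (hm : Nat.card (MulAut ↥N) = Nat.card ↥N * m) : N.index ∣ m := by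
  have hinj : Function.Injective (MulAut.conjNormal (H := N)) := by
    rw [injective_iff_map_eq_one]
    intro g hg
    have h1 : ∀ n : ↥N, g * n * g⁻¹ = n := by
      intro n
      have h2 := DFunLike.congr_fun hg n
      have h3 := congrArg Subtype.val h2
      rwa [MulAut.conjNormal_apply] at h3
    have h2 : g ∈ Subgroup.centralizer (N : Set X) := by
      rw [Subgroup.mem_centralizer_iff]
      intro n hn
      have h3 := h1 ⟨n, hn⟩
      exact (mul_inv_eq_iff_eq_mul.1 h3).symm
    have h3 : (⟨g, hC h2⟩ : ↥N) ∈ Subgroup.center ↥N := by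
      rw [Subgroup.mem_center_iff]
      intro n
      apply Subtype.ext
      have h4 := h1 n
      exact (mul_inv_eq_iff_eq_mul.1 h4).symm
    rw [hZ, Subgroup.mem_bot] at h3
    exact congrArg Subtype.val h3
  have h1 := Subgroup.card_dvd_of_injective _ hinj
  rw [hm, ← N.card_mul_index] at h1
  exact Nat.dvd_of_mul_dvd_mul_left Nat.card_pos h1

section max

open Cfsg

variable {S : Type*} [Group S]

theorem center_bot [IsSimpleGroup S] (hna : ¬ IsMulCommutative S) : Subgroup.center S = ⊥ := by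
  rcases (inferInstance : (Subgroup.center S).Normal).eq_bot_or_eq_top with h | h
  · exact h
  · exact absurd ⟨⟨fun a b => ((Subgroup.mem_center_iff.1 (by rw [h]; exact Subgroup.mem_top b)) a)⟩⟩ hna

theorem normal_gf (X : Type*) [Group X] : (generalizedFittingSubgroup X).Normal := by
  have := Cfsg.Agent.Lib.GenFitting.genFitting_characteristic (G := X)
  infer_instance

/-- the index of `F*(X)` in `X` -/
theorem index_gf [Finite S] [IsSimpleGroup S] (hna : ¬ IsMulCommutative S) {m : ℕ}
    (hm : Nat.card (MulAut S) = Nat.card S * m) {X : Type*} [Group X] [Finite X]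
    (e : ↥(generalizedFittingSubgroup X) ≃* S) : (generalizedFittingSubgroup X).index ∣ m := by
  have := normal_gf X
  refine index_dvd _ S1265.result ?_ ?_
  · have h1 : Subgroup.center S = ⊥ := center_bot hna
    have : Nontrivial ↥(generalizedFittingSubgroup X) := e.toEquiv.nontrivial
    have : IsSimpleGroup ↥(generalizedFittingSubgroup X) :=
      IsSimpleGroup.isSimpleGroup_of_surjective (e.symm : S →* _) e.symm.surjective
    refine center_bot fun hc => hna ⟨⟨fun a b => e.symm.injective ?_⟩⟩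
    rw [map_mul, map_mul]
    exact hc.is_comm.comm _ _
  · rw [Nat.card_congr (MulAut.congr e).toEquiv, hm, Nat.card_congr e.toEquiv]

theorem card_le_of_gf [Finite S] [IsSimpleGroup S] (hna : ¬ IsMulCommutative S) {m : ℕ} (hm0 : m ≠ 0)
    (hm : Nat.card (MulAut S) = Nat.card S * m) {X : Type*} [Group X] [Finite X]
    (e : ↥(generalizedFittingSubgroup X) ≃* S) : Nat.card X ≤ Nat.card S * m := by
  have hi := index_gf hna hm e
  rw [← (generalizedFittingSubgroup X).card_mul_index, Nat.card_congr e.toEquiv]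
  exact Nat.mul_le_mul_left _ (Nat.le_of_dvd (Nat.pos_of_ne_zero hm0) hi)

/-- the embedding of `S` -/
def emb {E : Type*} [Group E] (H : Subgroup E) (e : ↥(generalizedFittingSubgroup ↥H) ≃* S) : S →* E :=
  (H.subtype.comp (generalizedFittingSubgroup ↥H).subtype).comp (e.symm : S →* _)

theorem emb_injective {E : Type*} [Group E] (H : Subgroup E) (e : ↥(generalizedFittingSubgroup ↥H) ≃* S) :
    Function.Injective (emb H e) :=
  (H.subtype_injective.comp (generalizedFittingSubgroup ↥H).subtype_injective).comp e.symm.injective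

theorem max_two {E : Type*} [Group E] [Finite E] {ι : Type*} [Fintype ι] [DecidableEq ι] (R : E →* Matrix ι ι (ZMod 2))
    (hR : NoFix R) [Finite S] [IsSimpleGroup S] (hna : ¬ IsMulCommutative S) {m k : ℕ}
    (hm : Nat.card (MulAut S) = Nat.card S * m) (hk : m ∣ 2 ^ k)
    (hb : Nat.card S * m * 2 ^ Fintype.card ι < Nat.card E)
    (H : Subgroup E) (hH : IsCoatom H) (e : ↥(generalizedFittingSubgroup ↥H) ≃* S) : NoFix (R.comp (emb H e)) := by
  have hm0 : m ≠ 0 := fun h => by
    rw [h] at hk
    exact absurd (Nat.eq_zero_of_zero_dvd hk) (pow_ne_zero _ (by norm_num))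
  have hi := index_gf hna hm e
  have hc := card_le_of_gf hna hm0 hm e
  have := normal_gf ↥H
  exact noFix_equiv (noFix_two R hR hH (generalizedFittingSubgroup ↥H) (hi.trans hk)
    (lt_of_le_of_lt (Nat.mul_le_mul_right _ hc) hb)) e.symm

theorem max_three {E : Type*} [Group E] [Finite E] [IsSimpleGroup E] (hE : 6 < Nat.card E)
    {ι : Type*} [Fintype ι] [DecidableEq ι] (R : E →* Matrix ι ι (ZMod 2))
    (hR : NoFix R) [Finite S] [IsSimpleGroup S] (hna : ¬ IsMulCommutative S) {m k : ℕ}
    (hm : Nat.card (MulAut S) = Nat.card S * m) (hk : m ∣ 3 * 2 ^ k)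
    (hb : Nat.card S * m * (2 ^ Fintype.card ι) ^ 2 < Nat.card E)
    (H : Subgroup E) (hH : IsCoatom H) (e : ↥(generalizedFittingSubgroup ↥H) ≃* S) : NoFix (R.comp (emb H e)) := by
  have hm0 : m ≠ 0 := fun h => by
    rw [h] at hk
    exact absurd (Nat.eq_zero_of_zero_dvd hk) (mul_ne_zero (by norm_num) (pow_ne_zero _ (by norm_num)))
  have hi := index_gf hna hm e
  have hc := card_le_of_gf hna hm0 hm e
  have := normal_gf ↥H
  exact noFix_equiv (noFix_three R hE hR hH (generalizedFittingSubgroup ↥H) (hi.trans hk)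
    (lt_of_le_of_lt (Nat.mul_le_mul_right _ hc) hb)) e.symm

end max

end Cfsg.Agent.H943.E7V.NoFix
end
end

-- part: H943/E7V/Max
section
set_option linter.all false
open scoped Cfsg.Agent.FastGrp

-- part: H943/E7V/Fix
section
/-!
# `E₇(2)` has no fixed vectors and no fixed functionals on the 56-dimensional module
-/

set_option autoImplicit false
set_option linter.unusedSectionVars false
set_option maxRecDepth 100000

namespace Cfsg.Agent.H943.E7V.Fix

open Cfsg Cfsg.Lie Cfsg.Lie.ChevalleyDatum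
open Cfsg.Agent.ChevalleyStructure Cfsg.Agent.ChevalleyStructure.Elts Cfsg.Agent.ChevalleyStructure.CoxeterGeom
  Cfsg.Agent.ChevalleyStructure.CoxeterGeomTypes
  Cfsg.Agent.ChevalleyStructure.RootVec Cfsg.Agent.ChevalleyStructure.RootVecTab
open Cfsg.Agent.ChevalleyStructure.StBasic Cfsg.Agent.ChevalleyStructure.StTheta Cfsg.Agent.ChevalleyStructure.StEmbed
open Cfsg.Agent.KFacts.En.Roots Cfsg.Agent.H120.StSeven
open Cfsg.Agent.H943.E7V.Block Cfsg.Agent.H943.E7V.TorMain

theorem x_entry {D : ChevalleyDatum} {K : Type} [Field K] {r : ℕ} (hr : r < D.nroots) {s u : Fin D.nroots}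
    (h1 : (s : ℕ) ≠ r) (h2 : (s : ℕ) ≠ D.negIdx.getD r 0) (t : K) :
    D.x K r t (Sum.inr u) (Sum.inr s) = (if u = s then 1 else 0) +
      ((D.chainCoeff r s u).map fun km => ((km.2 : ℤ) : K) * t ^ km.1).sum := by
  unfold ChevalleyDatum.x
  rw [dif_pos hr]
  unfold ChevalleyDatum.xMat
  rw [Matrix.of_apply]
  have h3 : s ≠ ⟨r, hr⟩ := fun h => h1 (congrArg Fin.val h)
  simp only [if_neg h3, if_neg h2]

/-- the weights are moved by root elements: `(s, r, u)` with `u = s + r` -/
def TT : List (ℕ × ℕ × ℕ) :=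
  [(120, 63, 122), (120, 65, 125), (120, 68, 129), (120, 72, 134), (120, 77, 140), (120, 82, 146), (120, 86,
   151), (120, 89, 155), (120, 91, 158), (120, 92, 160), (120, 98, 168), (120, 102, 173), (120, 105, 177),
   (120, 107, 180), (120, 108, 182), (120, 111, 187), (120, 113, 190), (120, 114, 192), (120, 116, 196), (120,
   117, 198), (120, 118, 201), (120, 120, 206), (120, 121, 208), (120, 122, 211), (120, 123, 215), (120, 124,
   220), (120, 125, 227), (122, 62, 120), (122, 92, 161), (122, 108, 183), (122, 114, 193), (122, 117, 199),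
   (122, 118, 202), (122, 121, 209), (122, 122, 212), (122, 123, 216), (122, 124, 221), (122, 125, 228), (125,
   60, 120), (125, 118, 203), (125, 122, 213), (125, 123, 217), (125, 124, 222), (125, 125, 229), (129, 57,
   120), (129, 123, 218), (129, 124, 223), (129, 125, 230), (134, 53, 120), (134, 124, 224), (134, 125, 231),
   (140, 48, 120), (140, 125, 232), (146, 43, 120), (146, 124, 225), (146, 125, 233), (151, 39, 120), (151,
   125, 234), (155, 36, 120), (155, 125, 235), (158, 34, 120), (158, 125, 236), (160, 33, 120), (160, 125,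
   237), (161, 33, 122), (161, 125, 238), (168, 27, 120), (173, 23, 120), (177, 20, 120), (180, 18, 120),
   (182, 17, 120), (183, 17, 122), (187, 14, 120), (190, 12, 120), (192, 11, 120), (193, 11, 122), (196, 9,
   120), (198, 8, 120), (199, 8, 122), (201, 7, 120), (202, 7, 122), (203, 7, 125), (206, 5, 120), (208, 4,
   120), (209, 4, 122), (211, 3, 120), (212, 3, 122), (213, 3, 125), (215, 2, 120), (216, 2, 122), (217, 2,
   125), (218, 2, 129), (220, 1, 120), (221, 1, 122), (222, 1, 125), (223, 1, 129), (224, 1, 134), (225, 1,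
   146), (227, 0, 120), (228, 0, 122), (229, 0, 125), (230, 0, 129), (231, 0, 134), (232, 0, 140), (233, 0,
   146), (234, 0, 151), (235, 0, 155), (236, 0, 158), (237, 0, 160), (238, 0, 161)]

private theorem cc_nil (D : ChevalleyDatum) (r t u : ℕ)
    (h : ∀ e ∈ (D.chain.getD r #[]).toList, e.1 = t → ∀ q ∈ e.2.toList, q.1 ≠ u) : D.chainCoeff r t u = [] := by
  unfold ChevalleyDatum.chainCoeff
  rw [List.flatMap_eq_nil_iff]
  intro e he
  rw [List.mem_filter, decide_eq_true_iff] at he
  rw [List.map_eq_nil_iff, List.filter_eq_nil_iff]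
  intro q hq
  rw [decide_eq_true_iff]
  exact h e he.1 he.2 q.1 (List.fst_mem_of_mem_zipIdx hq)

private theorem chkN : (TT.all fun x => (decide (x.2.1 < 126) && decide (x.1 ≠ x.2.2)) &&
    ((decide (chevE8.chainCoeff (ι78 x.2.1) x.1 x.2.2 = [(1, 1)]) ||
      decide (chevE8.chainCoeff (ι78 x.2.1) x.1 x.2.2 = [(1, -1)])) &&
    (chevE8.chain.getD (ι78 x.2.1) #[]).toList.all fun e => e.2.toList.all fun q =>
      Bool.rec (Bool.rec true false (Nat.beq q.1 x.2.2)) (Nat.beq q.1 x.2.2) (Nat.beq e.1 x.1))) = true := by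
  decide +kernel

theorem src : ∀ s < 240, rt chevE8 s 7 = 1 → ∃ x ∈ TT, x.1 = s ∧ x.2.2 < 240 ∧ rt chevE8 x.2.2 7 = 1 := by decide +kernel

theorem tgt : ∀ s < 240, rt chevE8 s 7 = 1 → ∃ x ∈ TT, x.2.2 = s ∧ x.1 < 240 ∧ rt chevE8 x.1 7 = 1 := by decide +kernel

theorem chk_spec {x : ℕ × ℕ × ℕ} (hx : x ∈ TT) : x.2.1 < 126 ∧ x.1 ≠ x.2.2 ∧
    (∀ t < 240, rt chevE8 t 7 = 1 → chevE8.chainCoeff (ι78 x.2.1) t x.2.2 = [(1, 1)] ∧ t = x.1 ∨
      chevE8.chainCoeff (ι78 x.2.1) t x.2.2 = [(1, -1)] ∧ t = x.1 ∨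
      chevE8.chainCoeff (ι78 x.2.1) t x.2.2 = [] ∧ t ≠ x.1) ∧
    (∀ t < 240, rt chevE8 t 7 = 1 → chevE8.chainCoeff (ι78 x.2.1) x.1 t = [(1, 1)] ∧ t = x.2.2 ∨
      chevE8.chainCoeff (ι78 x.2.1) x.1 t = [(1, -1)] ∧ t = x.2.2 ∨
      chevE8.chainCoeff (ι78 x.2.1) x.1 t = [] ∧ t ≠ x.2.2) := by
  have h := List.all_eq_true.1 chkN x hx
  rw [Bool.and_eq_true, Bool.and_eq_true, Bool.and_eq_true, Bool.or_eq_true, decide_eq_true_iff, decide_eq_true_iff,
    decide_eq_true_iff, decide_eq_true_iff] at h
  obtain ⟨⟨h1, h2⟩, h3, h4⟩ := h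
  have h5 : ∀ e ∈ (chevE8.chain.getD (ι78 x.2.1) #[]).toList, ∀ q ∈ e.2.toList, (e.1 = x.1 ↔ q.1 = x.2.2) := by
    intro e he q hq
    have h6 := List.all_eq_true.1 (List.all_eq_true.1 h4 e he) q hq
    rw [← Nat.beq_eq, ← Nat.beq_eq]
    revert h6
    cases Nat.beq e.1 x.1 <;> cases Nat.beq q.1 x.2.2 <;> decide
  refine ⟨h1, h2, fun t _ _ => ?_, fun t _ _ => ?_⟩
  · by_cases hts : t = x.1
    · rw [hts]
      exact h3.elim (fun h => Or.inl ⟨h, rfl⟩) fun h => Or.inr (Or.inl ⟨h, rfl⟩)
    · exact Or.inr (Or.inr ⟨cc_nil _ _ _ _ fun e he h1 q hq h2 => hts (h1.symm.trans ((h5 e he q hq).2 h2)), hts⟩)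
  · by_cases hts : t = x.2.2
    · rw [hts]
      exact h3.elim (fun h => Or.inl ⟨h, rfl⟩) fun h => Or.inr (Or.inl ⟨h, rfl⟩)
    · exact Or.inr (Or.inr ⟨cc_nil _ _ _ _ fun e he h1 q hq h2 => hts (h2.symm.trans ((h5 e he q hq).1 h1)), hts⟩)

/-- the root element of `E₇(2)` -/
noncomputable def rx (r : ℕ) : ↥(chevE7.group (ZMod 2)) := eqv (chevE7.stGen (ZMod 2) r 1)

theorem RR_rx {r : ℕ} (hr : r < 126) (a b : D1) : RR (rx r) a b =
    chevE8.x (ZMod 2) (ι78 r) 1 (Sum.inr a.1) (Sum.inr b.1) := by
  have h1 : RR (rx r) = rho (ZMod 2) (chevE7.stGen (ZMod 2) r 1) := by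
    show rho (ZMod 2) (eqv.symm (eqv (chevE7.stGen (ZMod 2) r 1))) = _
    rw [MulEquiv.symm_apply_apply]
  have h2 : ((H120.StSeven.alpha (ZMod 2) (chevE7.stGen (ZMod 2) r 1) : ↥(chevE8.group (ZMod 2))) :
      GL chevE8.Idx (ZMod 2)) = xG ty_E8.ty.inList (ι78 r) 1 := by
    show ((theta ty_E8.ty.inList (ZMod 2) (hom emb78 (ZMod 2) (chevE7.stGen (ZMod 2) r 1)) :
      ↥(chevE8.group (ZMod 2))) : GL chevE8.Idx (ZMod 2)) = _
    rw [hom_stGen emb78 hr, coe_theta, thetaGL_stGen]
  rw [h1, rho_apply, h2]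
  rfl

theorem iota_lt {r : ℕ} (hr : r < 126) : ι78 r < chevE8.nroots := emb78.lt r hr

theorem col_ne {r : ℕ} (hr : r < 126) (b : D1) : ((b : Fin chevE8.nroots) : ℕ) ≠ ι78 r ∧
    ((b : Fin chevE8.nroots) : ℕ) ≠ chevE8.negIdx.getD (ι78 r) 0 := by
  have h0 := grade_iota r hr
  refine ⟨fun h => ?_, fun h => ?_⟩
  · have h1 := b.2
    rw [h, h0] at h1
    exact absurd h1 (by norm_num)
  · have h1 := b.2
    have h3 := rt_neg checked_E8 (iota_lt hr) 7
    rw [h0] at h3
    change rt chevE8 (chevE8.negIdx.getD (ι78 r) 0) 7 = _ at h3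
    rw [← h, h1] at h3
    exact absurd h3 (by norm_num)

theorem sum_chain {L : List (ℕ × ℤ)} : (L = [(1, 1)] ∨ L = [(1, -1)] →
    (L.map fun km => ((km.2 : ℤ) : ZMod 2) * 1 ^ km.1).sum = 1) ∧
    (L = [] → (L.map fun km => ((km.2 : ℤ) : ZMod 2) * 1 ^ km.1).sum = 0) := by
  refine ⟨?_, ?_⟩
  · rintro (rfl | rfl) <;> simp
  · rintro rfl; rfl

/-- the row of `u` -/
theorem row_eq {x : ℕ × ℕ × ℕ} (hx : x ∈ TT) {a : D1} (ha : ((a : Fin chevE8.nroots) : ℕ) = x.2.2) (b : D1) :
    RR (rx x.2.1) a b = (if b = a then 1 else 0) + if ((b : Fin chevE8.nroots) : ℕ) = x.1 then 1 else 0 := by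
  obtain ⟨h1, h2, h3, -⟩ := chk_spec hx
  obtain ⟨n1, n2⟩ := col_ne h1 b
  rw [RR_rx h1, x_entry (iota_lt h1) n1 n2]
  congr 1
  · simp only [Subtype.ext_iff, eq_comm]
  · rw [ha]
    rcases h3 b.1 b.1.2 b.2 with ⟨h, ht⟩ | ⟨h, ht⟩ | ⟨h, ht⟩
    · rw [if_pos ht]; exact sum_chain.1 (Or.inl h)
    · rw [if_pos ht]; exact sum_chain.1 (Or.inr h)
    · rw [if_neg ht]; exact sum_chain.2 h

/-- the column of `s` -/
theorem col_eq {x : ℕ × ℕ × ℕ} (hx : x ∈ TT) {b : D1} (hb : ((b : Fin chevE8.nroots) : ℕ) = x.1) (a : D1) :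
    RR (rx x.2.1) a b = (if a = b then 1 else 0) + if ((a : Fin chevE8.nroots) : ℕ) = x.2.2 then 1 else 0 := by
  obtain ⟨h1, h2, -, h3⟩ := chk_spec hx
  obtain ⟨n1, n2⟩ := col_ne h1 b
  rw [RR_rx h1, x_entry (iota_lt h1) n1 n2]
  congr 1
  · simp only [Subtype.ext_iff]
  · rw [hb]
    rcases h3 a.1 a.1.2 a.2 with ⟨h, ht⟩ | ⟨h, ht⟩ | ⟨h, ht⟩
    · rw [if_pos ht]; exact sum_chain.1 (Or.inl h)
    · rw [if_pos ht]; exact sum_chain.1 (Or.inr h)
    · rw [if_neg ht]; exact sum_chain.2 h

/-- **no fixed vectors** -/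
theorem fix_vec {v : D1 → ZMod 2} (h : ∀ g, (RR g).mulVec v = v) : v = 0 := by
  funext b
  obtain ⟨x, hx, hxs, hu, hu7⟩ := src b.1 b.1.2 b.2
  let a : D1 := ⟨⟨x.2.2, hu⟩, hu7⟩
  have h1 := congrFun (h (rx x.2.1)) a
  rw [Matrix.mulVec, dotProduct] at h1
  simp only [row_eq hx (a := a) rfl, add_mul, ite_mul, one_mul, zero_mul] at h1
  rw [Finset.sum_add_distrib, Finset.sum_ite_eq' Finset.univ a, if_pos (Finset.mem_univ _)] at h1
  have h2 : ∀ c : D1, (((c : Fin chevE8.nroots) : ℕ) = x.1) ↔ c = b := by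
    intro c
    rw [hxs]
    constructor
    · intro h; exact Subtype.ext (Fin.ext h)
    · intro h; rw [h]
  simp only [h2] at h1
  rw [Finset.sum_ite_eq' Finset.univ b, if_pos (Finset.mem_univ _)] at h1
  exact add_eq_left.1 h1

/-- **no fixed functionals** -/
theorem fix_fun {v : D1 → ZMod 2} (h : ∀ g, Matrix.vecMul v (RR g) = v) : v = 0 := by
  funext b
  obtain ⟨x, hx, hxs, hu, hu7⟩ := tgt b.1 b.1.2 b.2
  let a : D1 := ⟨⟨x.1, hu⟩, hu7⟩
  have h1 := congrFun (h (rx x.2.1)) a
  rw [Matrix.vecMul, dotProduct] at h1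
  simp only [col_eq hx (b := a) rfl, mul_add, mul_ite, mul_one, mul_zero] at h1
  rw [Finset.sum_add_distrib, Finset.sum_ite_eq' Finset.univ a, if_pos (Finset.mem_univ _)] at h1
  have h2 : ∀ c : D1, (((c : Fin chevE8.nroots) : ℕ) = x.2.2) ↔ c = b := by
    intro c
    rw [hxs]
    constructor
    · intro h; exact Subtype.ext (Fin.ext h)
    · intro h; rw [h]
  simp only [h2] at h1
  rw [Finset.sum_ite_eq' Finset.univ b, if_pos (Finset.mem_univ _)] at h1
  exact add_eq_left.1 h1

end Cfsg.Agent.H943.E7V.Fix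
end

-- part: H943/E7V/Max
section
/-!
# Maximal subgroups of `E₇(2)` with simple generalized Fitting subgroup: no fixed vectors
-/

set_option autoImplicit false
set_option linter.unusedSectionVars false

namespace Cfsg.Agent.H943.E7V

open Cfsg Cfsg.Lie IsLocalRing Module Cfsg.Agent.H657
open Cfsg.Agent.H943.E7V.Block Cfsg.Agent.H943.E7V.AdmMain Cfsg.Agent.H943.E7V.TorMain

/-- `S` has a representation of degree 56 with the Brauer values of the 56-dimensional module of `E₇(2)`, without fixed
vectors and functionals -/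
def AdmF (S : Type*) [Group S] : Prop :=
  ∃ (M : Ideal AlgInt) (V : ValuationSubring ℂ), IsPModular 2 M ∧ Above M V ∧
    ∃ σ : Representation (ResidueField V) S (Fin 56 → ResidueField V), Vals σ ∧
      (∀ v, (∀ s, σ s v = v) → v = 0) ∧
      (∀ f : Module.Dual (ResidueField V) (Fin 56 → ResidueField V), (∀ s, f ∘ₗ σ s = f) → f = 0)

namespace Max

theorem card_eq : Nat.card ↥(chevE7.group (ZMod 2)) =
    2 ^ 63 * (2 ^ 2 - 1) * (2 ^ 6 - 1) * (2 ^ 8 - 1) * (2 ^ 10 - 1) * (2 ^ 12 - 1) * (2 ^ 14 - 1) * (2 ^ 18 - 1) := by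
  have h := S1064.result (F := ZMod 2) (q := 2) (ZMod.card 2)
  have h1 : Nat.gcd 2 (2 - 1) = 1 := by decide
  rw [h1, one_mul] at h
  exact h

theorem two_pow_lt : 2 ^ 132 < Nat.card ↥(chevE7.group (ZMod 2)) := by
  rw [card_eq]
  norm_num

instance fin : Finite ↥(chevE7.group (ZMod 2)) := Nat.finite_of_card_ne_zero (by
  have := two_pow_lt
  omega)

theorem simp : IsSimpleGroup ↥(chevE7.group (ZMod 2)) := (S1054.result (F := ZMod 2) chevE7 (by simp)).1

theorem noFix_RR : NoFix.NoFix RR := ⟨fun _ h => Fix.fix_vec h, fun _ h => Fix.fix_fun h⟩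

/-- from matrices to `AdmF` -/
theorem admF_of {S : Type*} [Group S] {f : S →* ↥(chevE7.group (ZMod 2))} (hf : Function.Injective f)
    (h : NoFix.NoFix (RR.comp f)) : AdmF S := by
  have hfact : Fact (Nat.Prime 2) := ⟨Nat.prime_two⟩
  obtain ⟨M, hM⟩ := Cfsg.Agent.Blocks.ExistsModular.exists_isPModular Nat.prime_two
  obtain ⟨V, hV⟩ := exists_above hM
  have : CharP (ResidueField V) 2 := hV.charP hM
  have hv : Vals ((sg V).comp f) := by
    have H := vals (V := V)
    have ho : ∀ g, orderOf (f g) = orderOf g := fun g => orderOf_injective f hf g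
    refine ⟨?_, fun g hg => ?_, fun g hg => ?_, fun g hg => ?_, fun g hg => ?_, fun g hg => ?_,
      fun g hg => ?_, fun g hg j hj => ?_⟩
    · have := H.one
      rw [← map_one f] at this
      exact this
    · exact H.three (f g) (by rw [ho, hg])
    · exact H.five (f g) (by rw [ho, hg])
    · exact H.seven (f g) (by rw [ho, hg])
    · exact H.thirteen (f g) (by rw [ho, hg])
    · obtain ⟨m, hm⟩ := H.fifteen (f g) (by rw [ho, hg])
      refine ⟨m, fun j hj => ?_⟩
      have := hm j hj
      rw [← map_pow] at this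
      exact this
    · have := H.three_inv (f g) (by rw [ho, hg])
      rw [← map_inv] at this
      exact this
    · have := H.seven_pow (f g) (by rw [ho, hg]) j hj
      rw [← map_pow] at this
      exact this
  refine ⟨M, V, hM, hV, (sg V).comp f, hv, fun v hv => ?_, fun l hl => ?_⟩
  · exact NoFix.ext_vec h e56 hv
  · exact NoFix.ext_fun h e56 hl

variable {S : Type*} [Group S]

/-- **Maximal subgroups of `E₇(2)`**: `F*(H)` simple with `|Out| ∣ 2 ^ k`. -/
theorem admF_two [Finite S] [IsSimpleGroup S] (hna : ¬ IsMulCommutative S) {m k : ℕ}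
    (hm : Nat.card (MulAut S) = Nat.card S * m) (hk : m ∣ 2 ^ k) (hb : Nat.card S * m ≤ 2 ^ 76)
    (H : Subgroup ↥(chevE7.group (ZMod 2))) (hH : IsCoatom H) (e : ↥(generalizedFittingSubgroup ↥H) ≃* S) : AdmF S := by
  refine admF_of (NoFix.emb_injective H e) (NoFix.max_two RR noFix_RR hna hm hk ?_ H hH e)
  refine lt_of_le_of_lt (Nat.mul_le_mul_right _ hb) (lt_of_eq_of_lt ?_ two_pow_lt)
  rw [card_D1, ← pow_add]

/-- **Maximal subgroups of `E₇(2)`**: `F*(H)` simple with `|Out| ∣ 3 * 2 ^ k`. -/
theorem admF_three [Finite S] [IsSimpleGroup S] (hna : ¬ IsMulCommutative S) {m k : ℕ}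
    (hm : Nat.card (MulAut S) = Nat.card S * m) (hk : m ∣ 3 * 2 ^ k) (hb : Nat.card S * m ≤ 2 ^ 20)
    (H : Subgroup ↥(chevE7.group (ZMod 2))) (hH : IsCoatom H) (e : ↥(generalizedFittingSubgroup ↥H) ≃* S) : AdmF S := by
  have := simp
  refine admF_of (NoFix.emb_injective H e) (NoFix.max_three (lt_trans (by norm_num) two_pow_lt) RR noFix_RR hna hm hk
    ?_ H hH e)
  refine lt_of_le_of_lt (Nat.mul_le_mul_right _ hb) (lt_of_eq_of_lt ?_ two_pow_lt)
  rw [card_D1, ← pow_mul, ← pow_add]

end Max

end Cfsg.Agent.H943.E7V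
end
end

-- part: H943/E7V/Scott_mg
section
prune_inst 0x14004115542210000018001060001c26f5000000000b00000040070203080e00604106600c20140a000484800001004000000030000000000000000000000000000042049248a000100000000000000000000000000000000000000000000004000000000
set_option linter.all false
open scoped Cfsg.Agent.FastGrp

-- part: H943/E7V/Scott
section
/-!
# Scott's lemma and the groups with generators of small fixed spaces
-/

set_option autoImplicit false
set_option linter.unusedSectionVars false

namespace Cfsg.Agent.H943.E7V.Scott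

open Cfsg IsLocalRing Module Cfsg.Agent.H657

section scott

variable {k : Type*} [Field k] {V : Type*} [AddCommGroup V] [Module k V] [FiniteDimensional k V] {G : Type*} [Group G]
  (σ : Representation k G V)

/-- the fixed space of `g` -/
def fx (g : G) : Submodule k V := LinearMap.ker (σ g - 1)

variable {σ}

theorem mem_fx {g : G} {v : V} : v ∈ fx σ g ↔ σ g v = v := by
  rw [fx, LinearMap.mem_ker, LinearMap.sub_apply, Module.End.one_apply, sub_eq_zero]

/-- a vector fixed by generators is fixed -/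
theorem fix_of_gen {x y : G} (hxy : Subgroup.closure {x, y} = ⊤) {v : V} (hx : σ x v = v) (hy : σ y v = v) (g : G) :
    σ g v = v := by
  have hle : Subgroup.closure {x, y} ≤ ({ carrier := {g | σ g v = v}
                                          one_mem' := by simp only [_root_.Set.mem_ofPred_eq, _root_.map_one, _root_.Module.End.one_apply]
                                          mul_mem' := fun {a b} ha hb => by
                                            show σ (a * b) v = v
                                            rw [map_mul, Module.End.mul_apply, hb, ha]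
                                          inv_mem' := fun {a} ha => by
                                            show σ a⁻¹ v = v
                                            have ha' : σ a v = v := ha
                                            conv_lhs => rw [← ha']
                                            rw [← Module.End.mul_apply, ← map_mul, inv_mul_cancel, map_one,
                                              Module.End.one_apply] } : Subgroup G) := by
    rw [Subgroup.closure_le]
    rintro _ (rfl | rfl)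
    · exact hx
    · exact hy
  exact hle (by rw [hxy]; exact Subgroup.mem_top g)

theorem fun_of_gen {x y : G} (hxy : Subgroup.closure {x, y} = ⊤) {f : Module.Dual k V} (hx : f ∘ₗ σ x = f)
    (hy : f ∘ₗ σ y = f) (g : G) : f ∘ₗ σ g = f := by
  have hle : Subgroup.closure {x, y} ≤ ({ carrier := {g | f ∘ₗ σ g = f}
                                          one_mem' := by
                                            show f ∘ₗ σ 1 = f
                                            rw [map_one]; rfl
                                          mul_mem' := fun {a b} ha hb => by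
                                            show f ∘ₗ σ (a * b) = f
                                            have ha' : f ∘ₗ σ a = f := ha
                                            have hb' : f ∘ₗ σ b = f := hb
                                            rw [map_mul, Module.End.mul_eq_comp, ← LinearMap.comp_assoc, ha', hb']
                                          inv_mem' := fun {a} ha => by
                                            show f ∘ₗ σ a⁻¹ = f
                                            have ha' : f ∘ₗ σ a = f := ha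
                                            conv_lhs => rw [← ha']
                                            rw [LinearMap.comp_assoc, ← Module.End.mul_eq_comp, ← map_mul, mul_inv_cancel,
                                              map_one]
                                            rfl } : Subgroup G) := by
    rw [Subgroup.closure_le]
    rintro _ (rfl | rfl)
    · exact hx
    · exact hy
  exact hle (by rw [hxy]; exact Subgroup.mem_top g)

/-- **Scott's lemma.** -/
theorem scott (hv : ∀ v, (∀ s, σ s v = v) → v = 0) (hf : ∀ f : Module.Dual k V, (∀ s, f ∘ₗ σ s = f) → f = 0)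
    {x y : G} (hxy : Subgroup.closure {x, y} = ⊤) :
    finrank k (fx σ x) + finrank k (fx σ y) + finrank k (fx σ (x * y)) ≤ finrank k V := by
  set a : Module.End k V := σ x - 1 with ha
  set b : Module.End k V := σ y - 1 with hb
  set c : Module.End k V := σ (x * y) - 1 with hc
  let γ : V →ₗ[k] (LinearMap.range a × LinearMap.range b) := a.rangeRestrict.prod b.rangeRestrict
  let δ : (LinearMap.range a × LinearMap.range b) →ₗ[k] V :=
    (LinearMap.range a).subtype.coprod ((σ x) ∘ₗ (LinearMap.range b).subtype)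
  have hγ : Function.Injective γ := by
    rw [← LinearMap.ker_eq_bot, LinearMap.ker_eq_bot']
    intro v hv'
    have h1 : a v = 0 := congrArg (fun z => (z.1 : V)) hv'
    have h2 : b v = 0 := congrArg (fun z => (z.2 : V)) hv'
    rw [ha, LinearMap.sub_apply, Module.End.one_apply, sub_eq_zero] at h1
    rw [hb, LinearMap.sub_apply, Module.End.one_apply, sub_eq_zero] at h2
    exact hv v (fix_of_gen hxy h1 h2)
  have hδγ : δ ∘ₗ γ = c := by
    ext v
    show (a v) + σ x (b v) = c v
    rw [ha, hb, hc, map_mul]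
    simp only [LinearMap.sub_apply, Module.End.one_apply, Module.End.mul_apply, map_sub]
    abel
  have hδ : LinearMap.range δ = ⊤ := by
    by_contra hne
    obtain ⟨f, hf0, hf1⟩ := Submodule.exists_le_ker_of_lt_top _ (lt_top_iff_ne_top.2 hne)
    apply hf0
    apply hf
    have h1 : ∀ v, f (a v) = 0 := fun v => by
      have h3 : δ (⟨a v, LinearMap.mem_range_self a v⟩, 0) ∈ LinearMap.range δ := LinearMap.mem_range_self _ _
      have h4 := hf1 h3
      rw [LinearMap.mem_ker] at h4
      have h5 : δ (⟨a v, LinearMap.mem_range_self a v⟩, 0) = a v := by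
        show a v + σ x ((0 : LinearMap.range b) : V) = a v
        simp only [_root_.ZeroMemClass.coe_zero, _root_.map_zero, _root_.add_zero]
      rwa [h5] at h4
    have h1' : ∀ v, f (σ x v) = f v := fun v => by
      have := h1 v
      rw [ha, LinearMap.sub_apply, Module.End.one_apply, map_sub, sub_eq_zero] at this
      exact this
    have h2 : ∀ v, f (σ y v) = f v := fun v => by
      have h3 : δ (0, ⟨b v, LinearMap.mem_range_self b v⟩) ∈ LinearMap.range δ := LinearMap.mem_range_self _ _
      have h4 := hf1 h3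
      rw [LinearMap.mem_ker] at h4
      have h5 : δ (0, ⟨b v, LinearMap.mem_range_self b v⟩) = σ x (b v) := by
        show ((0 : LinearMap.range a) : V) + σ x (b v) = σ x (b v)
        simp only [_root_.ZeroMemClass.coe_zero, _root_.zero_add]
      rw [h5, h1', hb, LinearMap.sub_apply, Module.End.one_apply, map_sub, sub_eq_zero] at h4
      exact h4
    exact fun_of_gen hxy (LinearMap.ext h1') (LinearMap.ext h2)
  have e1 := LinearMap.finrank_range_add_finrank_ker a
  have e2 := LinearMap.finrank_range_add_finrank_ker b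
  have e3 := LinearMap.finrank_range_add_finrank_ker δ
  rw [hδ, finrank_top, finrank_prod] at e3
  have e4 : finrank k (LinearMap.ker c) ≤ finrank k (LinearMap.ker δ) := by
    have h1 : (LinearMap.ker c).map γ ≤ LinearMap.ker δ := by
      rintro _ ⟨v, hv', rfl⟩
      rw [LinearMap.mem_ker, ← LinearMap.comp_apply, hδγ]
      exact hv'
    have h2 := Submodule.finrank_mono h1
    rwa [← (Submodule.equivMapOfInjective γ hγ (LinearMap.ker c)).finrank_eq] at h2
  show finrank k (LinearMap.ker a) + finrank k (LinearMap.ker b) + finrank k (LinearMap.ker c) ≤ finrank k V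
  omega

/-- an involution in characteristic 2 fixes at least half of the space -/
theorem finrank_fx_two [CharP k 2] {g : G} (hg : g ^ 2 = 1) : finrank k V ≤ 2 * finrank k (fx σ g) := by
  obtain ⟨e, he⟩ : ∃ e : Module.End k V, e = σ g - 1 := ⟨_, rfl⟩
  have hfx : fx σ g = LinearMap.ker e := by rw [he]; rfl
  have h1 : LinearMap.range e ≤ LinearMap.ker e := by
    rintro _ ⟨v, rfl⟩
    rw [LinearMap.mem_ker]
    have h3 : σ g (σ g v) = v := by
      rw [← Module.End.mul_apply, ← map_mul, ← pow_two, hg, map_one, Module.End.one_apply]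
    have h4 : ∀ w : V, w + w = 0 := fun w => by
      have h5 : ((2 : ℕ) : k) • w = 0 := by rw [CharP.cast_eq_zero k 2, zero_smul]
      rw [Nat.cast_smul_eq_nsmul, two_nsmul] at h5
      exact h5
    rw [he, LinearMap.sub_apply, LinearMap.sub_apply, Module.End.one_apply, Module.End.one_apply, map_sub, h3]
    have h5 := h4 (v - σ g v)
    rw [← h5]
    abel
  have h2 := Submodule.finrank_mono h1
  have h3 := LinearMap.finrank_range_add_finrank_ker e
  rw [hfx]
  omega

end scott

section values

variable {M : Ideal AlgInt} {V : ValuationSubring ℂ} {S : Type*} [Group S]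

/-- fixed spaces of elements of odd order -/
theorem finrank_fx (hM : IsPModular 2 M) (hV : Above M V) {n : ℕ}
    (σ : Representation (ResidueField V) S (Fin n → ResidueField V)) {g : S} {m : ℕ} (hm : orderOf g = m)
    (h2 : m.Coprime 2) :
    ∑ j ∈ Finset.range m, bc 2 σ (g ^ j) = (m : ℂ) * (finrank (ResidueField V) (fx σ g) : ℂ) := by
  classical
  subst hm
  have hfin : IsOfFinOrder g := by
    rw [← orderOf_pos_iff]
    rcases Nat.eq_zero_or_pos (orderOf g) with h | h
    · rw [h] at h2
      exact absurd h2 (by decide)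
    · exact h
  have : Finite ↥(Subgroup.zpowers g) := hfin.finite_zpowers
  let _ : Fintype ↥(Subgroup.zpowers g) := Fintype.ofFinite _
  have h1 := H597.BrInv.C hM hV (P := ↥(Subgroup.zpowers g)) (by
    rw [← Nat.card_eq_fintype_card, Nat.card_zpowers]; exact h2) (σ.comp (Subgroup.zpowers g).subtype)
  rw [← Nat.card_eq_fintype_card, Nat.card_zpowers] at h1
  have h3 : Representation.invariants (σ.comp (Subgroup.zpowers g).subtype) = fx σ g := by
    ext v
    rw [Representation.mem_invariants, mem_fx]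
    constructor
    · intro h
      exact h ⟨g, Subgroup.mem_zpowers g⟩
    · rintro h ⟨y, n, rfl⟩
      show σ (g ^ n) v = v
      have h5 : g ^ n ∈ ({ carrier := {g | σ g v = v}
                           one_mem' := by simp only [_root_.Set.mem_ofPred_eq, _root_.map_one, _root_.Module.End.one_apply]
                           mul_mem' := fun {a b} ha hb => by
                             show σ (a * b) v = v
                             rw [map_mul, Module.End.mul_apply, hb, ha]
                           inv_mem' := fun {a} ha => by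
                             show σ a⁻¹ v = v
                             have ha' : σ a v = v := ha
                             conv_lhs => rw [← ha']
                             rw [← Module.End.mul_apply, ← map_mul, inv_mul_cancel, map_one,
                               Module.End.one_apply] } : Subgroup S) :=
        Subgroup.zpow_mem _ h n
      exact h5
  rw [h3] at h1
  rw [← h1]
  refine Finset.sum_bij (fun j _ => ⟨g ^ j, j, zpow_natCast g j⟩) (fun _ _ => Finset.mem_univ _) ?_ ?_ ?_
  · intro i hi j hj hij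
    exact pow_injOn_Iio_orderOf (Finset.mem_range.1 hi) (Finset.mem_range.1 hj) (congrArg Subtype.val hij)
  · rintro ⟨y, hy⟩ _
    obtain ⟨j, hj, hjy⟩ := (hfin.mem_zpowers_iff_mem_range_orderOf).1 hy |> Finset.mem_image.1
    exact ⟨j, hj, Subtype.ext hjy⟩
  · intro j _
    rfl

end values

section rows

variable {M : Ideal AlgInt} {V : ValuationSubring ℂ} {S : Type*} [Group S]
  {σ : Representation (ResidueField V) S (Fin 56 → ResidueField V)}

/-- fixed spaces of elements of prime order with the same value on all the powers -/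
theorem finrank_prime (hM : IsPModular 2 M) (hV : Above M V) (H : Vals σ) {g : S} {p : ℕ} (hp : p.Prime)
    (hp2 : p ≠ 2) (hg : orderOf g = p) {t : ℤ} (ht : ∀ j, ¬ p ∣ j → bc 2 σ (g ^ j) = t) :
    (p : ℤ) * (finrank (ResidueField V) (fx σ g) : ℤ) = 56 + (p - 1) * t := by
  have h1 := finrank_fx hM hV σ hg ((Nat.coprime_primes hp Nat.prime_two).2 hp2)
  rw [← Finset.add_sum_erase _ _ (Finset.mem_range.2 hp.pos), pow_zero, H.one] at h1
  have h2 : ∀ j ∈ (Finset.range p).erase 0, bc 2 σ (g ^ j) = t := by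
    intro j hj
    rw [Finset.mem_erase, Finset.mem_range] at hj
    exact ht j fun h => hj.1 (Nat.eq_zero_of_dvd_of_lt h hj.2)
  rw [Finset.sum_congr rfl h2, Finset.sum_const, Finset.card_erase_of_mem (Finset.mem_range.2 hp.pos),
    Finset.card_range, nsmul_eq_mul, Nat.cast_sub hp.one_lt.le] at h1
  have h3 : (56 : ℤ) + (p - 1) * t = (p : ℤ) * (finrank (ResidueField V) (fx σ g) : ℤ) := by
    exact_mod_cast h1
  exact h3.symm

theorem orderOf_pow_prime {g : S} {p : ℕ} (hp : p.Prime) (hg : orderOf g = p) {j : ℕ} (hj : ¬ p ∣ j) :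
    orderOf (g ^ j) = p := by
  rw [Nat.Coprime.orderOf_pow (by rw [hg]; exact (hp.coprime_iff_not_dvd).2 hj), hg]

theorem finrank_five (hM : IsPModular 2 M) (hV : Above M V) (H : Vals σ) {g : S} (hg : orderOf g = 5) :
    finrank (ResidueField V) (fx σ g) = 16 := by
  have h1 := finrank_prime hM hV H (by norm_num) (by norm_num) hg (t := 6) fun j hj => by
    rw [H.five _ (orderOf_pow_prime (by norm_num) hg hj)]; norm_num
  omega

theorem finrank_thirteen (hM : IsPModular 2 M) (hV : Above M V) (H : Vals σ) {g : S} (hg : orderOf g = 13) :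
    finrank (ResidueField V) (fx σ g) = 8 := by
  have h1 := finrank_prime hM hV H (by norm_num) (by norm_num) hg (t := 4) fun j hj => by
    rw [H.thirteen _ (orderOf_pow_prime (by norm_num) hg hj)]; norm_num
  omega

theorem bc_three_pow (H : Vals σ) {g : S} (hg : orderOf g = 3) {t : ℤ} (ht : bc 2 σ g = t) {j : ℕ} (hj : ¬ 3 ∣ j) :
    bc 2 σ (g ^ j) = t := by
  have h3 : g ^ 3 = 1 := by rw [← hg, pow_orderOf_eq_one]
  have h1 : g ^ j = g ^ (j % 3) := by
    conv_lhs => rw [← Nat.div_add_mod j 3, pow_add, pow_mul, h3, one_pow, one_mul]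
  have h2 : j % 3 = 1 ∨ j % 3 = 2 := by omega
  rcases h2 with h2 | h2
  · rw [h1, h2, pow_one, ht]
  · have h4 : g ^ 2 = g⁻¹ := by
      rw [eq_inv_iff_mul_eq_one, ← pow_succ, h3]
    rw [h1, h2, h4, H.three_inv g hg, ht]

theorem finrank_three (hM : IsPModular 2 M) (hV : Above M V) (H : Vals σ) {g : S} (hg : orderOf g = 3) {t : ℤ}
    (ht : bc 2 σ g = t) : 3 * (finrank (ResidueField V) (fx σ g) : ℤ) = 56 + 2 * t := by
  have h1 := finrank_prime hM hV H (by norm_num) (by norm_num) hg fun j hj => bc_three_pow H hg ht hj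
  push_cast at h1
  linarith only [h1]

/-- **No (2,5,5)-generated groups.** -/
theorem not_255 (h : AdmF S) {x y : S} (hx : orderOf x = 5) (hy : orderOf y = 5) (hz : (x * y) ^ 2 = 1)
    (hc : Subgroup.closure {x, y} = ⊤) : False := by
  obtain ⟨M, V, hM, hV, σ, H, h1, h2⟩ := h
  have : Fact (Nat.Prime 2) := ⟨Nat.prime_two⟩
  have : CharP (ResidueField V) 2 := hV.charP hM
  have h3 := scott h1 h2 hc
  have h4 := finrank_fx_two (σ := σ) hz
  rw [finrank_five hM hV H hx, finrank_five hM hV H hy] at h3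
  rw [finrank_fin_fun] at h3 h4
  omega

/-- **No (3,3,13)-generated groups** with the values 2, 20 at the generators. -/
theorem not_3_3_13 {M : Ideal AlgInt} {V : ValuationSubring ℂ} (hM : IsPModular 2 M) (hV : Above M V)
    {σ : Representation (ResidueField V) S (Fin 56 → ResidueField V)} (H : Vals σ)
    (h1 : ∀ v, (∀ s, σ s v = v) → v = 0)
    (h2 : ∀ f : Module.Dual (ResidueField V) (Fin 56 → ResidueField V), (∀ s, f ∘ₗ σ s = f) → f = 0)
    {x y : S} (hx : orderOf x = 3) (hy : orderOf y = 3) (hz : orderOf (x * y) = 13)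
    (hb : (bc 2 σ x = 2 ∧ bc 2 σ y = 20) ∨ (bc 2 σ x = 20 ∧ bc 2 σ y = 2))
    (hc : Subgroup.closure {x, y} = ⊤) : False := by
  have h3 := scott h1 h2 hc
  rw [finrank_thirteen hM hV H hz, finrank_fin_fun] at h3
  rcases hb with ⟨h4, h5⟩ | ⟨h4, h5⟩
  · have h6 := finrank_three hM hV H hx (t := 2) (by rw [h4]; norm_num)
    have h7 := finrank_three hM hV H hy (t := 20) (by rw [h5]; norm_num)
    omega
  · have h6 := finrank_three hM hV H hx (t := 20) (by rw [h4]; norm_num)
    have h7 := finrank_three hM hV H hy (t := 2) (by rw [h5]; norm_num)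
    omega

end rows

end Cfsg.Agent.H943.E7V.Scott
end

-- part: H61/E7/L219
section
/-!
# S5935, T6: `PSL(2, 19)` is generated by two elements of order `5` whose product is an involution
-/

set_option autoImplicit false

namespace Cfsg.Agent.H61.E7

open Matrix Cfsg.Agent.LieClassical.SLTwoUnipotent

/-- the prime field -/
abbrev K19 := ZMod 19

instance fact_nineteen : Fact (Nat.Prime 19) := ⟨by norm_num⟩

/-- the first generator, of trace `4` -/
def X : _root_.Matrix.SpecialLinearGroup (Fin 2) K19 := ⟨!![0, 18; 1, 4], by rw [det_fin_two_of]; decide +kernel⟩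

/-- the second generator, of trace `4` -/
def Y : _root_.Matrix.SpecialLinearGroup (Fin 2) K19 := ⟨!![1, 13; 6, 3], by rw [det_fin_two_of]; decide +kernel⟩

theorem X_pow : X ^ 5 = 1 := by decide +kernel

theorem Y_pow : Y ^ 5 = 1 := by decide +kernel

theorem XY_sq : (X * Y) ^ 2 = -1 := by decide +kernel

theorem word_u : (X * Y * Y * X * X) ^ 2 = u 5 := by decide +kernel

theorem word_l : (X * X * Y * Y * X) ^ 2 = l 14 := by decide +kernel

theorem u_pow (x : K19) : u x = (u 5) ^ (4 * x).val := by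
  revert x
  decide +kernel

theorem l_pow (x : K19) : l x = (l 14) ^ (15 * x).val := by
  revert x
  decide +kernel

theorem closure_XY : Subgroup.closure {X, Y} = ⊤ := by
  have hX : X ∈ Subgroup.closure {X, Y} := Subgroup.subset_closure (by simp)
  have hY : Y ∈ Subgroup.closure {X, Y} := Subgroup.subset_closure (by simp)
  apply eq_top_of_u_mem_of_l_mem
  · intro x
    rw [u_pow, ← word_u]
    exact pow_mem (pow_mem (mul_mem (mul_mem (mul_mem (mul_mem hX hY) hY) hX) hX) _) _
  · intro x
    rw [l_pow, ← word_l]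
    exact pow_mem (pow_mem (mul_mem (mul_mem (mul_mem (mul_mem hX hX) hY) hY) hX) _) _

/-- **`PSL(2, 19)` is a `(2, 5, 5)`-group.** -/
theorem l2_nineteen {F : Type*} [Field F] [Fintype F] (hF : Fintype.card F = 19) :
    ∃ x y : ProjectiveSpecialLinearGroup (Fin 2) F, orderOf x = 5 ∧ orderOf y = 5 ∧ (x * y) ^ 2 = 1 ∧ x * y ≠ 1 ∧
      Subgroup.closure {x, y} = ⊤ := by
  have hp : Nat.Prime 19 := by norm_num
  let e : K19 ≃+* F := ZMod.ringEquivOfPrime F hp hF
  let m : _root_.Matrix.SpecialLinearGroup (Fin 2) K19 →* _root_.Matrix.SpecialLinearGroup (Fin 2) F := SpecialLinearGroup.map e.toRingHom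
  let f : _root_.Matrix.SpecialLinearGroup (Fin 2) K19 →* ProjectiveSpecialLinearGroup (Fin 2) F := (QuotientGroup.mk' _).comp m
  have hm : ∀ (g : _root_.Matrix.SpecialLinearGroup (Fin 2) K19) (i j : Fin 2), m g i j = e (g i j) := fun _ _ _ => rfl
  have hms : Function.Surjective m := by
    intro g
    refine ⟨SpecialLinearGroup.map e.symm.toRingHom g, ?_⟩
    ext i j
    rw [hm]
    exact e.apply_symm_apply _
  have hfs : Function.Surjective f := (QuotientGroup.mk'_surjective _).comp hms
  -- an element with a nonzero entry outside the diagonal is not in the kernel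
  have hne : ∀ g : _root_.Matrix.SpecialLinearGroup (Fin 2) K19, g 1 0 ≠ 0 → f g ≠ 1 := by
    intro g hg h
    have h1 : m g ∈ Subgroup.center (_root_.Matrix.SpecialLinearGroup (Fin 2) F) := (QuotientGroup.eq_one_iff _).1 h
    rw [Matrix.SpecialLinearGroup.mem_center_iff] at h1
    obtain ⟨r, -, hr⟩ := h1
    have h2 : (m g : Matrix (Fin 2) (Fin 2) F) 1 0 = 0 := by
      rw [← hr]
      rfl
    have h3 : e (g 1 0) = 0 := h2
    rw [map_eq_zero_iff e e.injective] at h3
    exact hg h3
  have hneg : f (-1) = 1 := by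
    refine (QuotientGroup.eq_one_iff _).2 ?_
    rw [Matrix.SpecialLinearGroup.mem_center_iff]
    refine ⟨-1, by rw [Fintype.card_fin]; norm_num, ?_⟩
    ext i j
    rw [hm]
    fin_cases i <;> fin_cases j <;> simp only [_root_.Fin.zero_eta, _root_.Fin.isValue, _root_.Matrix.scalar_apply, _root_.Matrix.diagonal_apply_eq, _root_.Matrix.SpecialLinearGroup.coe_neg, _root_.Matrix.SpecialLinearGroup.coe_one, _root_.Matrix.neg_apply, _root_.Matrix.one_apply_eq, _root_.RingEquiv.map_neg_one, _root_.Fin.mk_one, _root_.ne_eq, _root_.zero_ne_one, _root_.not_false_eq_true, _root_.Matrix.diagonal_apply_ne, _root_.Nat.reduceAdd, _root_.Matrix.one_apply_ne, _root_.neg_zero, _root_.map_zero, _root_.one_ne_zero]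
  have : Fact (Nat.Prime 5) := ⟨by norm_num⟩
  refine ⟨f X, f Y, ?_, ?_, ?_, ?_, ?_⟩
  · apply orderOf_eq_prime
    · rw [← map_pow, X_pow, map_one]
    · exact hne X (by decide +kernel)
  · apply orderOf_eq_prime
    · rw [← map_pow, Y_pow, map_one]
    · exact hne Y (by decide +kernel)
  · rw [← map_mul, ← map_pow, XY_sq, hneg]
  · rw [← map_mul]
    exact hne (X * Y) (by decide +kernel)
  · have h1 : ({f X, f Y} : Set (ProjectiveSpecialLinearGroup (Fin 2) F)) = f '' {X, Y} := by
      rw [Set.image_pair]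
    rw [h1, ← MonoidHom.map_closure, closure_XY]
    exact Subgroup.map_top_of_surjective f hfs

end Cfsg.Agent.H61.E7
end

private theorem dce_eb97d84ddd3d : _root_.True := by
  try have : _root_.True := by simp only [_root_.Cfsg.Agent.H943.E7V.Scott.fx.eq_1]
  exact _root_.True.intro
end

-- part: H540/E72/Row
section
prune_inst 0x5204010400000000000050400001c06960000900028000050000240068e1b0240002160c4201800080802040031004811000000024000000400000001180080000040041300a000200000000080000000000000000000000000000000041004000000000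
set_option linter.all false
open scoped Cfsg.Agent.FastGrp

-- part: H194/E7V/A13Gen
section
/-!
# S5935 T7: generators of the alternating group of degree 13

* `exists_gens`: there are `x` of type `3 ^ 4` and `y` of type `3 ^ 2` in `A₁₃` such that `x * y` is a 13-cycle and
  `x`, `y` generate `A₁₃`.
* `isConj_of_cube`: two elements of order dividing 3 of `A₁₃` with supports of the same size are conjugate in `A₁₃`.
-/

set_option autoImplicit false

namespace Cfsg.Agent.H194.E7V

open Equiv Equiv.Perm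

/-- the element of type `3 ^ 4` -/
def px : Perm (Fin 13) :=
  ⟨![5, 1, 3, 4, 2, 12, 7, 8, 6, 10, 11, 9, 0], ![12, 1, 4, 2, 3, 0, 8, 6, 7, 11, 9, 10, 5], by decide, by decide⟩

/-- the element of type `3 ^ 2` -/
def py : Perm (Fin 13) :=
  ⟨![1, 4, 2, 3, 0, 8, 6, 7, 11, 9, 10, 5, 12], ![4, 0, 2, 3, 1, 11, 6, 7, 5, 9, 10, 8, 12], by decide, by decide⟩

theorem px_cube : px ^ 3 = 1 := by decide +kernel

theorem py_cube : py ^ 3 = 1 := by decide +kernel

theorem cycleType_of_cube {α : Type*} [Fintype α] [DecidableEq α] {σ : Perm α} (h : σ ^ 3 = 1) {k : ℕ}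
    (hk : σ.support.card = 3 * k) : σ.cycleType = Multiset.replicate k 3 := by
  have : Fact (Nat.Prime 3) := ⟨Nat.prime_three⟩
  have h1 := cycleType_of_pow_prime_eq_one h
  have h2 := σ.sum_cycleType
  rw [h1, Multiset.sum_replicate, hk, smul_eq_mul] at h2
  have h3 : Multiset.card σ.cycleType = k := by omega
  rw [h1, h3]

theorem sign_of_cube {α : Type*} [Fintype α] [DecidableEq α] {σ : Perm α} (h : σ ^ 3 = 1) : sign σ = 1 := by
  have h1 : (sign σ) ^ 3 = 1 := by rw [← map_pow, h, map_one]
  rcases Int.units_eq_one_or (sign σ) with h2 | h2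
  · exact h2
  · rw [h2] at h1
    exact absurd h1 (by decide)

theorem px_supp : px.support.card = 3 * 4 := by decide +kernel

theorem py_supp : py.support.card = 3 * 2 := by decide +kernel

theorem px_type : px.cycleType = {3, 3, 3, 3} := cycleType_of_cube px_cube px_supp

theorem py_type : py.cycleType = {3, 3} := cycleType_of_cube py_cube py_supp

theorem px_mem : px ∈ alternatingGroup (Fin 13) := mem_alternatingGroup.2 (sign_of_cube px_cube)

theorem py_mem : py ∈ alternatingGroup (Fin 13) := mem_alternatingGroup.2 (sign_of_cube py_cube)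

theorem pxy_apply : ∀ i : Fin 13, (px * py) i = i + 1 := by decide +kernel

theorem pxy_pow : (px * py) ^ 13 = 1 := by decide +kernel

theorem pxy_order : orderOf (px * py) = 13 := by
  have : Fact (Nat.Prime 13) := ⟨by norm_num⟩
  exact orderOf_eq_prime pxy_pow (by decide +kernel)

theorem word_three : ((px * py * px⁻¹ * py) ^ 7).IsThreeCycle := by
  rw [← card_support_eq_three_iff]
  decide +kernel

/-- the two elements generate the alternating group -/
theorem le_closure : alternatingGroup (Fin 13) ≤ Subgroup.closure {px, py} := by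
  have hx : px ∈ Subgroup.closure {px, py} := Subgroup.subset_closure (by simp)
  have hy : py ∈ Subgroup.closure {px, py} := Subgroup.subset_closure (by simp)
  have hpow : ∀ (k : ℕ) (i : Fin 13), ((px * py) ^ k) i = i + k • (1 : Fin 13) := by
    intro k
    induction k with
    | zero => intro i; simp
    | succ k ih =>
      intro i
      rw [pow_succ, Perm.mul_apply, pxy_apply, ih, succ_nsmul]
      abel
  have hval : ∀ a : Fin 13, a.val • (1 : Fin 13) = a := by decide
  have hpre : MulAction.IsPretransitive (Subgroup.closure {px, py}) (Fin 13) := by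
    refine ⟨fun i j => ⟨⟨(px * py) ^ (j - i).val, pow_mem (mul_mem hx hy) _⟩, ?_⟩⟩
    show ((px * py) ^ (j - i).val) i = j
    rw [hpow, hval]
    abel
  have hprim : MulAction.IsPreprimitive (Subgroup.closure {px, py}) (Fin 13) :=
    MulAction.IsPreprimitive.of_prime_card (by rw [Nat.card_eq_fintype_card, Fintype.card_fin]; norm_num)
  exact alternatingGroup_le_of_isPreprimitive_of_isThreeCycle_mem hprim word_three
    (pow_mem (mul_mem (mul_mem (mul_mem hx hy) (inv_mem hx)) hy) 7)

/-- `A₁₃` has generators of types `3 ^ 4`, `3 ^ 2` whose product is a 13-cycle. -/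
theorem exists_gens : ∃ x y : alternatingGroup (Fin 13), (x : Perm (Fin 13)).cycleType = {3, 3, 3, 3} ∧
    (y : Perm (Fin 13)).cycleType = {3, 3} ∧ orderOf (x * y) = 13 ∧ Subgroup.closure {x, y} = ⊤ := by
  refine ⟨⟨px, px_mem⟩, ⟨py, py_mem⟩, px_type, py_type, ?_, ?_⟩
  · rw [← Subgroup.orderOf_coe]
    exact pxy_order
  · apply Subgroup.map_injective (Subgroup.subtype_injective (alternatingGroup (Fin 13)))
    rw [MonoidHom.map_closure, Set.image_pair, ← MonoidHom.range_eq_map, Subgroup.range_subtype]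
    refine le_antisymm ?_ le_closure
    rw [Subgroup.closure_le]
    rintro g (rfl | rfl)
    · exact px_mem
    · exact py_mem

/-- Elements of order dividing 3 with supports of the same size are conjugate in `A₁₃`. -/
theorem isConj_of_cube {σ τ : alternatingGroup (Fin 13)} (hσ : (σ : Perm (Fin 13)) ^ 3 = 1)
    (hτ : (τ : Perm (Fin 13)) ^ 3 = 1)
    (h : (σ : Perm (Fin 13)).support.card = (τ : Perm (Fin 13)).support.card) : IsConj σ τ := by
  have : Fact (Nat.Prime 3) := ⟨Nat.prime_three⟩
  have h1 := cycleType_of_pow_prime_eq_one hσ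
  have h2 := cycleType_of_pow_prime_eq_one hτ
  have h3 := (σ : Perm (Fin 13)).sum_cycleType
  have h4 := (τ : Perm (Fin 13)).sum_cycleType
  rw [h1, Multiset.sum_replicate, smul_eq_mul] at h3
  rw [h2, Multiset.sum_replicate, smul_eq_mul] at h4
  have h5 : Multiset.card (σ : Perm (Fin 13)).cycleType = Multiset.card (τ : Perm (Fin 13)).cycleType := by omega
  have h6 : IsConj (σ : Perm (Fin 13)) (τ : Perm (Fin 13)) := by
    rw [isConj_iff_cycleType_eq, h1, h2, h5]
  -- an odd permutation centralizing `σ`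
  have h7 : ¬ Subgroup.centralizer {(σ : Perm (Fin 13))} ≤ alternatingGroup (Fin 13) := by
    rw [centralizer_le_alternating_iff]
    rintro ⟨-, h8, h9⟩
    have h10 := h9 3
    rw [h1, Multiset.count_replicate_self] at h10
    rw [(σ : Perm (Fin 13)).sum_cycleType, Fintype.card_fin] at h8
    omega
  obtain ⟨c, hc1, hc2⟩ := SetLike.not_le_iff_exists.1 h7
  rw [mem_alternatingGroup] at hc2
  have hc3 : sign c = -1 := (Int.units_eq_one_or _).resolve_left hc2
  obtain ⟨π, hπ⟩ := isConj_iff.1 h6
  rw [isConj_iff]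
  rcases Int.units_eq_one_or (sign π) with hs | hs
  · exact ⟨⟨π, mem_alternatingGroup.2 hs⟩, Subtype.ext hπ⟩
  · refine ⟨⟨π * c, mem_alternatingGroup.2 (by rw [map_mul, hs, hc3]; decide)⟩, Subtype.ext ?_⟩
    show π * c * (σ : Perm (Fin 13)) * (π * c)⁻¹ = τ
    have hc4 : c * (σ : Perm (Fin 13)) = σ * c := (Subgroup.mem_centralizer_singleton_iff.1 hc1)
    rw [mul_assoc π, hc4, mul_inv_rev, ← hπ]
    group

end Cfsg.Agent.H194.E7V
end

-- part: H194/E7V/A13Tr
section
/-!
# S5935 T7: the values of the 56-dimensional module at the elements of order 3 of the alternating group of degree 13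
-/

set_option autoImplicit false

namespace Cfsg.Agent.H194.E7V

open Cfsg IsLocalRing Module Cfsg.Agent.H657 Cfsg.Agent.H943.E7V Equiv Equiv.Perm

universe u

variable {V : ValuationSubring ℂ} {M : Ideal AlgInt}

attribute [local instance] Above.isAlgClosed

theorem bc_isConj {G : Type*} [Group G] {n : ℕ} (σ : Representation (ResidueField V) G (Fin n → ResidueField V))
    {g h : G} (hc : IsConj g h) : bc 2 σ g = bc 2 σ h := by
  obtain ⟨c, rfl⟩ := isConj_iff.1 hc
  exact (bc_conj 2 σ g c).symm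

/-- The sum of the Brauer character over a subgroup of odd order given by a parametrization. -/
theorem fix_family (hM : IsPModular 2 M) (hV : Above M V) {G : Type u} [Group G] {n : ℕ}
    (σ : Representation (ResidueField V) G (Fin n → ResidueField V)) {ι : Type*} [Fintype ι] (T : ι → G)
    (hinj : Function.Injective T) (hone : ∃ i, T i = 1) (hmul : ∀ i j, ∃ k, T i * T j = T k)
    (hodd : Odd (Fintype.card ι)) : ∃ d : ℕ, ∑ i, bc 2 σ (T i) = d * Fintype.card ι := by
  classical
  obtain ⟨e, he⟩ := hone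
  choose m hm using hmul
  have hminj : ∀ i, Function.Injective (m i) := by
    intro i j j' h
    apply hinj
    apply mul_left_cancel (a := T i)
    rw [hm, hm, h]
  let K : Subgroup G :=
    { carrier := Set.range T
      one_mem' := ⟨e, he⟩
      mul_mem' := by
        rintro _ _ ⟨i, rfl⟩ ⟨j, rfl⟩
        exact ⟨m i j, (hm i j).symm⟩
      inv_mem' := by
        rintro _ ⟨i, rfl⟩
        obtain ⟨j, hj⟩ := Finite.surjective_of_injective (hminj i) e
        refine ⟨j, ?_⟩
        rw [eq_inv_iff_mul_eq_one, mul_eq_one_comm, hm, hj, he] }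
  let E : ι ≃ K := Equiv.ofInjective T hinj
  let _ : Fintype K := Fintype.ofEquiv ι E
  have hcard : Fintype.card K = Fintype.card ι := (Fintype.card_congr E).symm
  obtain ⟨d, -, hd⟩ := H484.Pos.pos hM hV (σ.comp K.subtype)
    (CharDeep.LinearChar.isIrrCharacter_of_hom (1 : K →* ℂˣ)) (by
      intro g hg
      exfalso
      apply hg
      intro h2
      have h4 := h2.trans orderOf_dvd_card
      rw [hcard] at h4
      exact (Nat.not_even_iff_odd.2 hodd) (even_iff_two_dvd.2 h4))
  refine ⟨d, ?_⟩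
  rw [hcard] at hd
  rw [hd]
  simp only [MonoidHom.one_apply, Units.val_one, mul_one, one_mul]
  exact (Fintype.sum_equiv E _ _ fun i => rfl)

/-! ### `A₅` -/

theorem a5_cases : ∀ g : alternatingGroup (Fin 5), g = 1 ∨
    (g ≠ 1 ∧ g ^ 3 = 1 ∧ (Finset.univ.filter fun i => (g : Perm (Fin 5)) i = i).card = 2) ∨
    (g ≠ 1 ∧ g ^ 5 = 1 ∧ g ^ 3 ≠ 1 ∧ (Finset.univ.filter fun i => (g : Perm (Fin 5)) i = i).card = 0) ∨
    (g ≠ 1 ∧ g ^ 2 = 1 ∧ g ^ 3 ≠ 1 ∧ g ^ 5 ≠ 1 ∧
      (Finset.univ.filter fun i => (g : Perm (Fin 5)) i = i).card = 1) := by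
  (set_option synthInstance.maxSize 9000 in open scoped Cfsg.Agent.Lib.FastPerm in decide +kernel)

theorem a5_three : (Finset.univ.filter fun g : alternatingGroup (Fin 5) => g ≠ 1 ∧ g ^ 3 = 1).card = 20 := by
  (set_option synthInstance.maxSize 9000 in open scoped Cfsg.Agent.Lib.FastPerm in decide +kernel)

theorem a5_five : (Finset.univ.filter fun g : alternatingGroup (Fin 5) => g ≠ 1 ∧ g ^ 5 = 1).card = 24 := by
  (set_option synthInstance.maxSize 9000 in open scoped Cfsg.Agent.Lib.FastPerm in decide +kernel)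

theorem a5_one : (Finset.univ.filter fun g : alternatingGroup (Fin 5) => g = 1).card = 1 := by
  (set_option synthInstance.maxSize 9000 in open scoped Cfsg.Agent.Lib.FastPerm in decide +kernel)

/-- Positivity for the 4-dimensional character of `A₅`. -/
theorem a5_pos (hM : IsPModular 2 M) (hV : Above M V)
    (σ : Representation (ResidueField V) (alternatingGroup (Fin 5)) (Fin 56 → ResidueField V)) (h1 : bc 2 σ 1 = 56)
    (h5 : ∀ g, orderOf g = 5 → bc 2 σ g = 6) {t : ℤ} (h3 : ∀ g, orderOf g = 3 → bc 2 σ g = t) : -4 ≤ t := by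
  classical
  have htr : MulAction.IsMultiplyPretransitive (alternatingGroup (Fin 5)) (Fin 5) (Nat.card (Fin 5) - 2) :=
    alternatingGroup.isMultiplyPretransitive (Fin 5)
  rw [Nat.card_eq_fintype_card, Fintype.card_fin] at htr
  have ht2 : MulAction.IsMultiplyPretransitive (alternatingGroup (Fin 5)) (Fin 5) 2 :=
    MulAction.isMultiplyPretransitive_of_le (n := 3) (by norm_num) (by simp)
  have ht1 : MulAction.IsPretransitive (alternatingGroup (Fin 5)) (Fin 5) :=
    MulAction.isPretransitive_of_is_two_pretransitive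
  have hirr := (S0157.result (G := alternatingGroup (Fin 5)) (Fin 5) (by simp)).2 ht2
  have hfix : ∀ g : alternatingGroup (Fin 5), Nat.card (MulAction.fixedBy (Fin 5) g) =
      (Finset.univ.filter fun i => (g : Perm (Fin 5)) i = i).card := by
    intro g
    rw [Nat.card_eq_fintype_card, Fintype.card_subtype]
    rfl
  have hp3 := Fact.mk (show Nat.Prime 3 by norm_num)
  have hp5 := Fact.mk (show Nat.Prime 5 by norm_num)
  obtain ⟨d, -, hd⟩ := H484.Pos.pos hM hV σ hirr (by
    intro g hg
    simp only [IsPRegular, not_not] at hg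
    rw [hfix]
    rcases a5_cases g with rfl | ⟨h2, h3, h4⟩ | ⟨h2, h3, -, h4⟩ | ⟨h2, h3, -, -, h4⟩
    · rw [orderOf_one] at hg
      norm_num at hg
    · rw [orderOf_eq_prime h3 h2] at hg
      norm_num at hg
    · rw [orderOf_eq_prime h3 h2] at hg
      norm_num at hg
    · rw [h4]
      norm_num)
  have hval : ∀ g : alternatingGroup (Fin 5), bc 2 σ g * ((Nat.card (MulAction.fixedBy (Fin 5) g⁻¹) : ℂ) - 1) =
      (224 : ℂ) * (if g = 1 then 1 else 0) + t * (if g ≠ 1 ∧ g ^ 3 = 1 then 1 else 0) +
        (-6) * (if g ≠ 1 ∧ g ^ 5 = 1 then 1 else 0) := by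
    intro g
    rw [MulAction.fixedBy_inv, hfix]
    rcases a5_cases g with rfl | ⟨h2, k3, h4⟩ | ⟨h2, k3, l3, h4⟩ | ⟨h2, k3, l3, l5, h4⟩
    · rw [h1, if_pos rfl, if_neg (by simp), if_neg (by simp)]
      have : (Finset.univ.filter fun i => ((1 : alternatingGroup (Fin 5)) : Perm (Fin 5)) i = i).card = 5 := by
        decide
      rw [this]
      norm_num
    · have h6 : orderOf g = 3 := orderOf_eq_prime k3 h2
      have h7 : g ^ 5 ≠ 1 := by
        intro h
        have h8 := orderOf_dvd_of_pow_eq_one h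
        rw [h6] at h8
        norm_num at h8
      rw [h3 g h6, h4, if_neg h2, if_pos ⟨h2, k3⟩, if_neg (fun h => h7 h.2)]
      norm_num
    · rw [h5 g (orderOf_eq_prime k3 h2), h4, if_neg h2, if_neg (fun h => l3 h.2), if_pos ⟨h2, k3⟩]
      norm_num
    · rw [h4, if_neg h2, if_neg (fun h => l3 h.2), if_neg (fun h => l5 h.2)]
      norm_num
  rw [Finset.sum_congr rfl fun g _ => hval g, Finset.sum_add_distrib, Finset.sum_add_distrib, ← Finset.mul_sum,
    ← Finset.mul_sum, ← Finset.mul_sum, Finset.sum_boole, Finset.sum_boole, Finset.sum_boole, a5_one, a5_three,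
    a5_five] at hd
  have hc1 : Nat.card (MulAction.fixedBy (Fin 5) (1 : alternatingGroup (Fin 5))) = 5 := by
    rw [hfix]
    decide
  rw [hc1] at hd
  have h9 : (d : ℝ) * (Fintype.card (alternatingGroup (Fin 5)) : ℝ) = 4 * (80 + 20 * t) := by
    have h10 : ((d : ℂ) * (Fintype.card (alternatingGroup (Fin 5)) : ℂ)) = 4 * (80 + 20 * t) := by
      rw [hd]
      push_cast
      ring
    exact_mod_cast h10
  have h11 : (0 : ℝ) ≤ (d : ℝ) * (Fintype.card (alternatingGroup (Fin 5)) : ℝ) := by positivity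
  rw [h9] at h11
  have h12 : (0 : ℤ) ≤ 4 * (80 + 20 * t) := by exact_mod_cast h11
  omega

/-! ### Embeddings of `A₅` -/

/-- `S₅` on 5 of the 13 points -/
def q1 : Perm (Fin 5) →* Perm (Fin 13) :=
  ((finSumFinEquiv : Fin 5 ⊕ Fin 8 ≃ Fin 13).permCongrHom.toMonoidHom).comp
    ((Perm.sumCongrHom (Fin 5) (Fin 8)).comp ((MonoidHom.id _).prod 1))

/-- `S₅` on 5 + 5 of the 13 points -/
def q2 : Perm (Fin 5) →* Perm (Fin 13) :=
  (((Equiv.sumCongr finSumFinEquiv (Equiv.refl (Fin 3))).trans finSumFinEquiv :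
      (Fin 5 ⊕ Fin 5) ⊕ Fin 3 ≃ Fin 13).permCongrHom.toMonoidHom).comp
    ((Perm.sumCongrHom (Fin 5 ⊕ Fin 5) (Fin 3)).comp
      (((Perm.sumCongrHom (Fin 5) (Fin 5)).comp ((MonoidHom.id _).prod (MonoidHom.id _))).prod 1))

theorem q1_spec : ∀ g : alternatingGroup (Fin 5), (q1 g = 1 → g = 1) ∧
    (g ≠ 1 → g ^ 3 = 1 → (q1 g).support.card = 3) := by
  (set_option synthInstance.maxSize 9000 in open scoped Cfsg.Agent.Lib.FastPerm in decide +kernel)

theorem q2_spec : ∀ g : alternatingGroup (Fin 5), (q2 g = 1 → g = 1) ∧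
    (g ≠ 1 → g ^ 3 = 1 → (q2 g).support.card = 6) := by
  (set_option synthInstance.maxSize 9000 in open scoped Cfsg.Agent.Lib.FastPerm in decide +kernel)

theorem q1_sign (g : Perm (Fin 5)) : sign (q1 g) = sign g := by
  show sign (Equiv.permCongr _ (Perm.sumCongr g 1)) = _
  rw [sign_permCongr, sign_sumCongr, Perm.sign_one, mul_one]

theorem q2_sign (g : Perm (Fin 5)) : sign (q2 g) = sign g * sign g := by
  show sign (Equiv.permCongr _ (Perm.sumCongr (Perm.sumCongr g g) 1)) = _
  rw [sign_permCongr, sign_sumCongr, sign_sumCongr, Perm.sign_one, mul_one]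

/-- restriction of a homomorphism to the alternating groups -/
def qAlt (q : Perm (Fin 5) →* Perm (Fin 13)) (h : ∀ g, sign g = 1 → sign (q g) = 1) :
    alternatingGroup (Fin 5) →* alternatingGroup (Fin 13) :=
  (q.comp (alternatingGroup (Fin 5)).subtype).codRestrict (alternatingGroup (Fin 13))
    (fun g => mem_alternatingGroup.2 (h g (mem_alternatingGroup.1 g.2)))

/-- The value at the elements of order 3 with support of size `s`, if `A₅` is embedded suitably. -/
theorem a5_value (hM : IsPModular 2 M) (hV : Above M V)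
    {σ : Representation (ResidueField V) (alternatingGroup (Fin 13)) (Fin 56 → ResidueField V)} (H : Vals σ)
    (q : Perm (Fin 5) →* Perm (Fin 13)) (h : ∀ g, sign g = 1 → sign (q g) = 1) {s : ℕ}
    (hq : ∀ g : alternatingGroup (Fin 5), (q g = 1 → g = 1) ∧ (g ≠ 1 → g ^ 3 = 1 → (q g).support.card = s))
    {x : alternatingGroup (Fin 13)} (hx : (x : Perm (Fin 13)) ^ 3 = 1) (hxs : (x : Perm (Fin 13)).support.card = s)
    {t : ℤ} (ht : bc 2 σ x = t) : -4 ≤ t := by
  have hinj : Function.Injective (qAlt q h) := by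
    rw [injective_iff_map_eq_one]
    intro g hg
    exact (hq g).1 (congrArg Subtype.val hg)
  refine a5_pos hM hV (σ.comp (qAlt q h)) ?_ (fun g hg => ?_) (fun g hg => ?_)
  · have := H.one
    rw [← map_one (qAlt q h)] at this
    exact this
  · exact H.five (qAlt q h g) (by rw [orderOf_injective _ hinj, hg])
  · have hg3 : g ^ 3 = 1 := by rw [← hg, pow_orderOf_eq_one]
    have hg1 : g ≠ 1 := by
      rintro rfl
      rw [orderOf_one] at hg
      norm_num at hg
    rw [← ht]
    refine bc_isConj σ (isConj_of_cube ?_ hx ?_)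
    · show (q g) ^ 3 = 1
      rw [← map_pow, ← Subgroup.coe_pow, hg3, Subgroup.coe_one, map_one]
    · show (q g).support.card = _
      rw [(hq g).2 hg1 hg3, hxs]

/-! ### The elementary abelian group `3 ^ 4` -/

/-- the points `0, ..., 11` -/
def pt (k : Fin 4) (a : Fin 3) : Fin 13 := ⟨3 * k.val + a.val, by omega⟩

/-- translations of the four blocks of size three -/
def tf (v : Fin 4 → Fin 3) : Fin 13 → Fin 13 :=
  ![pt 0 (0 + v 0), pt 0 (1 + v 0), pt 0 (2 + v 0), pt 1 (0 + v 1), pt 1 (1 + v 1), pt 1 (2 + v 1),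
    pt 2 (0 + v 2), pt 2 (1 + v 2), pt 2 (2 + v 2), pt 3 (0 + v 3), pt 3 (1 + v 3), pt 3 (2 + v 3), 12]

theorem tf_pt (v : Fin 4 → Fin 3) (k : Fin 4) (a : Fin 3) : tf v (pt k a) = pt k (a + v k) := by
  fin_cases k <;> fin_cases a <;> rfl

theorem tf_last (v : Fin 4 → Fin 3) : tf v 12 = 12 := rfl

theorem cases_pt : ∀ i : Fin 13, i = 12 ∨ ∃ k a, i = pt k a := by decide

theorem tf_add (v w : Fin 4 → Fin 3) (i : Fin 13) : tf v (tf w i) = tf (w + v) i := by
  rcases cases_pt i with rfl | ⟨k, a, rfl⟩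
  · rw [tf_last, tf_last, tf_last]
  · rw [tf_pt, tf_pt, tf_pt, Pi.add_apply, add_assoc]

theorem tf_zero (i : Fin 13) : tf 0 i = i := by
  rcases cases_pt i with rfl | ⟨k, a, rfl⟩
  · rw [tf_last]
  · rw [tf_pt, Pi.zero_apply, add_zero]

/-- the elements of the elementary abelian group -/
def tp (v : Fin 4 → Fin 3) : Perm (Fin 13) :=
  ⟨tf v, tf (-v), fun i => by rw [tf_add, add_neg_cancel, tf_zero], fun i => by rw [tf_add, neg_add_cancel, tf_zero]⟩

theorem tp_mul (v w : Fin 4 → Fin 3) : tp v * tp w = tp (w + v) := Equiv.ext (tf_add v w)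

theorem tp_cube (v : Fin 4 → Fin 3) : tp v ^ 3 = 1 := by
  rw [pow_succ, pow_two, tp_mul, tp_mul]
  have h : v + (v + v) = 0 := by
    funext k
    show v k + (v k + v k) = 0
    generalize v k = a
    revert a
    decide
  rw [h]
  exact Equiv.ext tf_zero

/-- the weight -/
def wt (v : Fin 4 → Fin 3) : ℕ := (Finset.univ.filter fun k => v k ≠ 0).card

theorem tp_supp : ∀ v : Fin 4 → Fin 3, (tp v).support.card = 3 * wt v := by
  decide +kernel

theorem pt_inj : ∀ k a b, pt k a = pt k b → a = b := by decide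

theorem tp_inj : Function.Injective tp := by
  intro v w h
  funext k
  have h1 : tf v (pt k 0) = tf w (pt k 0) := DFunLike.congr_fun h (pt k 0)
  rw [tf_pt, tf_pt, zero_add, zero_add] at h1
  exact pt_inj _ _ _ h1

/-- the elements of `3 ^ 4` in the alternating group -/
def ta (v : Fin 4 → Fin 3) : alternatingGroup (Fin 13) := ⟨tp v, mem_alternatingGroup.2 (sign_of_cube (tp_cube v))⟩

theorem ta_inj : Function.Injective ta := fun _ _ h => tp_inj (congrArg Subtype.val h)

theorem ta_mul (v w : Fin 4 → Fin 3) : ta v * ta w = ta (w + v) := Subtype.ext (tp_mul v w)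

theorem ta_zero : ta 0 = 1 := Subtype.ext (Equiv.ext tf_zero)

/-- the reference vector of weight `w` -/
def rf (w : ℕ) : Fin 4 → Fin 3 := fun k => if k.val < w then 1 else 0

theorem wt_rf : ∀ w : Fin 5, wt (rf w) = w := by decide

theorem wt_lt : ∀ v, wt v < 5 := by decide +kernel

theorem ta_conj (v : Fin 4 → Fin 3) : IsConj (ta v) (ta (rf (wt v))) := by
  refine isConj_of_cube (tp_cube _) (tp_cube _) ?_
  show (tp v).support.card = (tp (rf (wt v))).support.card
  rw [tp_supp, tp_supp, wt_rf ⟨wt v, wt_lt v⟩]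

theorem count_wt : ∀ w : Fin 5, (Finset.univ.filter fun v : Fin 4 → Fin 3 => wt v = w).card = ![1, 8, 24, 32, 16] w := by
  decide +kernel

/-- the vectors supported on the first three blocks -/
def e3 (v : Fin 3 → Fin 3) : Fin 4 → Fin 3 := ![v 0, v 1, v 2, 0]

theorem count_wt3 : ∀ w : Fin 5, (Finset.univ.filter fun v : Fin 3 → Fin 3 => wt (e3 v) = w).card =
    ![1, 6, 12, 8, 0] w := by
  decide +kernel

theorem e3_add (v w : Fin 3 → Fin 3) : e3 v + e3 w = e3 (v + w) := by
  funext k
  fin_cases k <;> rfl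

theorem e3_inj : Function.Injective e3 := by
  intro v w h
  funext k
  fin_cases k
  · exact congrFun h 0
  · exact congrFun h 1
  · exact congrFun h 2

theorem sum_wt {ι : Type*} [Fintype ι] (w : ι → ℕ) (hw : ∀ i, w i < 5) (c : Fin 5 → ℕ)
    (hc : ∀ k : Fin 5, (Finset.univ.filter fun i => w i = k).card = c k) (X : ℕ → ℂ) :
    ∑ i, X (w i) = ∑ k : Fin 5, (c k : ℂ) * X k := by
  classical
  have h1 : ∀ i, X (w i) = ∑ k : Fin 5, if w i = k then X k else 0 := by
    intro i
    rw [Finset.sum_eq_single (⟨w i, hw i⟩ : Fin 5)]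
    · rw [if_pos rfl]
    · intro b _ hb
      rw [if_neg]
      intro h
      apply hb
      exact Fin.ext h.symm
    · intro h
      exact absurd (Finset.mem_univ _) h
  rw [Finset.sum_congr rfl fun i _ => h1 i, Finset.sum_comm]
  refine Finset.sum_congr rfl fun k _ => ?_
  rw [← Finset.sum_filter, Finset.sum_const, hc, nsmul_eq_mul]

/-! ### The Frobenius group `13:3` -/

/-- the elements 1, 3, 9 -/
def m3 (u : Fin 3) : Fin 13 := ![1, 3, 9] u

theorem m3_mul : ∀ u u' : Fin 3, m3 u * m3 u' = m3 (u' + u) := by decide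

theorem af_aux (a b x v' v : Fin 13) : a * (b * x + v') + v = (a * b) * x + (a * v' + v) := by
  open Fin.CommRing in ring

/-- the elements of `13:3` -/
def af (i : Fin 3 × Fin 13) : Perm (Fin 13) :=
  ⟨fun x => m3 i.1 * x + i.2, fun x => m3 (-i.1) * (x - i.2), by
    revert i; decide +kernel, by revert i; decide +kernel⟩

theorem af_mul (i j : Fin 3 × Fin 13) : af i * af j = af (j.1 + i.1, m3 i.1 * j.2 + i.2) := by
  apply Equiv.ext
  intro x
  show m3 i.1 * (m3 j.1 * x + j.2) + i.2 = m3 (j.1 + i.1) * x + (m3 i.1 * j.2 + i.2)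
  rw [af_aux, m3_mul]

theorem af_inj' : ∀ i j : Fin 3 × Fin 13, af i 0 = af j 0 → af i 1 = af j 1 → i = j := by
  decide +kernel

theorem af_inj : Function.Injective af := fun i j h => af_inj' i j (DFunLike.congr_fun h 0) (DFunLike.congr_fun h 1)

theorem af_spec : ∀ i : Fin 3 × Fin 13, (i.1 ≠ 0 → af i ^ 3 = 1 ∧ (af i).support.card = 12) ∧
    (i.1 = 0 → i.2 ≠ 0 → af i ^ 13 = 1 ∧ af i ≠ 1) := by
  (set_option synthInstance.maxSize 9000 in open scoped Cfsg.Agent.Lib.FastPerm in decide +kernel)

theorem af_pow : ∀ i : Fin 3 × Fin 13, af i ^ 39 = 1 := by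
  (set_option synthInstance.maxSize 9000 in open scoped Cfsg.Agent.Lib.FastPerm in decide +kernel)

theorem af_sign (i : Fin 3 × Fin 13) : sign (af i) = 1 := by
  have h1 : (sign (af i)) ^ 39 = 1 := by rw [← map_pow, af_pow, map_one]
  rcases Int.units_eq_one_or (sign (af i)) with h2 | h2
  · exact h2
  · rw [h2] at h1
    exact absurd h1 (by decide)

/-- the elements of `13:3` in the alternating group -/
def aa (i : Fin 3 × Fin 13) : alternatingGroup (Fin 13) := ⟨af i, mem_alternatingGroup.2 (af_sign i)⟩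

theorem aa_inj : Function.Injective aa := fun _ _ h => af_inj (congrArg Subtype.val h)

theorem aa_mul (i j : Fin 3 × Fin 13) : aa i * aa j = aa (j.1 + i.1, m3 i.1 * j.2 + i.2) := Subtype.ext (af_mul i j)

theorem aa_one : aa (0, 0) = 1 := Subtype.ext (by decide +kernel)

theorem aa_count : ((Finset.univ.filter fun i : Fin 3 × Fin 13 => i.1 ≠ 0).card = 26) ∧
    ((Finset.univ.filter fun i : Fin 3 × Fin 13 => i.1 = 0 ∧ i.2 ≠ 0).card = 12) ∧
    ((Finset.univ.filter fun i : Fin 3 × Fin 13 => i.1 = 0 ∧ i.2 = 0).card = 1) := by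
  decide +kernel

/-! ### The values -/

theorem two_or {x : ℤ} (h : x = 2 ∨ x = 20 ∨ x = -7 ∨ x = -25) (k : -4 ≤ x) : x = 2 ∨ x = 20 := by
  omega

theorem int_arith {x1 x2 x3 x4 : ℤ} (h1 : x1 = 2 ∨ x1 = 20 ∨ x1 = -7 ∨ x1 = -25)
    (h2 : x2 = 2 ∨ x2 = 20 ∨ x2 = -7 ∨ x2 = -25) (h3 : x3 = 2 ∨ x3 = 20 ∨ x3 = -7 ∨ x3 = -25)
    (h4 : x4 = 2 ∨ x4 = 20 ∨ x4 = -7 ∨ x4 = -25) (k1 : -4 ≤ x1) (k2 : -4 ≤ x2) {d d' d'' : ℕ}
    (k4 : 104 + 26 * x4 = d * 39) (hE : 56 + 8 * x1 + 24 * x2 + 32 * x3 + 16 * x4 = d' * 81)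
    (hE3 : 56 + 6 * x1 + 12 * x2 + 8 * x3 = d'' * 27) : (x4 = 2 ∧ x2 = 20) ∨ (x4 = 20 ∧ x2 = 2) := by
  have k4' : -4 ≤ x4 := by
    clear h1 h2 h3 h4 k1 k2 hE hE3
    omega
  have h1' := two_or h1 k1
  have h2' := two_or h2 k2
  have h4' := two_or h4 k4'
  clear h1 h2 h4 k1 k2 k4 k4'
  rcases h1' with rfl | rfl <;> rcases h2' with rfl | rfl <;> rcases h4' with rfl | rfl <;>
    rcases h3 with rfl | rfl | rfl | rfl <;> omega

/-- **The values of the 56-dimensional module at the elements of type `3 ^ 4` and `3 ^ 2` of `A₁₃`.** -/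
theorem values (hM : IsPModular 2 M) (hV : Above M V)
    {σ : Representation (ResidueField V) (alternatingGroup (Fin 13)) (Fin 56 → ResidueField V)} (H : Vals σ)
    {x y : alternatingGroup (Fin 13)} (hx : (x : Perm (Fin 13)).cycleType = {3, 3, 3, 3})
    (hy : (y : Perm (Fin 13)).cycleType = {3, 3}) :
    (bc 2 σ x = 2 ∧ bc 2 σ y = 20) ∨ (bc 2 σ x = 20 ∧ bc 2 σ y = 2) := by
  classical
  have hp3 := Fact.mk (show Nat.Prime 3 by norm_num)
  have hp13 := Fact.mk (show Nat.Prime 13 by norm_num)
  -- the value at weight `w`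
  have hX : ∀ w : Fin 5, w ≠ 0 → ∃ t : ℤ, bc 2 σ (ta (rf w)) = t ∧ (t = 2 ∨ t = 20 ∨ t = -7 ∨ t = -25) := by
    intro w hw
    have h3 : orderOf (ta (rf w)) = 3 := by
      refine orderOf_eq_prime (Subtype.ext (tp_cube _)) ?_
      rw [← ta_zero]
      intro h
      have h5 := ta_inj h
      have h6 : ∀ w : Fin 5, w ≠ 0 → rf w ≠ 0 := by decide
      exact h6 w hw h5
    rcases H.three _ h3 with h | h | h | h
    · exact ⟨2, by rw [h]; norm_num, by norm_num⟩
    · exact ⟨20, by rw [h]; norm_num, by norm_num⟩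
    · exact ⟨-7, by rw [h]; norm_num, by norm_num⟩
    · exact ⟨-25, by rw [h]; norm_num, by norm_num⟩
  obtain ⟨x1, e1, h1⟩ := hX 1 (by decide)
  obtain ⟨x2, e2, h2⟩ := hX 2 (by decide)
  obtain ⟨x3, e3', h3⟩ := hX 3 (by decide)
  obtain ⟨x4, e4, h4⟩ := hX 4 (by decide)
  have e0 : bc 2 σ (ta (rf 0)) = 56 := by
    have : rf 0 = 0 := by decide
    rw [this, ta_zero, H.one]
  have hcard : ∀ w : Fin 5, ((ta (rf w) : alternatingGroup (Fin 13)) : Perm (Fin 13)).support.card = 3 * w := by
    intro w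
    show (tp (rf w)).support.card = _
    rw [tp_supp, wt_rf]
  -- `A₅`
  have k1 : -4 ≤ x1 := a5_value hM hV H q1 (fun g hg => by rw [q1_sign, hg]) q1_spec
    (x := ta (rf (1 : Fin 5))) (tp_cube _) (hcard 1) e1
  have k2 : -4 ≤ x2 := a5_value hM hV H q2 (fun g hg => by rw [q2_sign, hg, one_mul]) q2_spec
    (x := ta (rf (2 : Fin 5))) (tp_cube _) (hcard 2) e2
  -- `13:3`
  obtain ⟨d, hd⟩ := fix_family hM hV σ aa aa_inj ⟨_, aa_one⟩ (fun i j => ⟨_, aa_mul i j⟩) (by
    rw [Fintype.card_prod, Fintype.card_fin, Fintype.card_fin]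
    decide)
  have hval : ∀ i : Fin 3 × Fin 13, bc 2 σ (aa i) = (x4 : ℂ) * (if i.1 ≠ 0 then 1 else 0) +
      4 * (if i.1 = 0 ∧ i.2 ≠ 0 then 1 else 0) + 56 * (if i.1 = 0 ∧ i.2 = 0 then 1 else 0) := by
    intro i
    by_cases hi : i.1 = 0
    · by_cases hi2 : i.2 = 0
      · have : i = (0, 0) := Prod.ext hi hi2
        subst this
        rw [aa_one, H.one]
        norm_num
      · obtain ⟨h5, h6⟩ := (af_spec i).2 hi hi2
        rw [H.thirteen (aa i) (orderOf_eq_prime (Subtype.ext h5) (fun h => h6 (congrArg Subtype.val h))),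
          if_neg (not_not.2 hi), if_pos ⟨hi, hi2⟩, if_neg (fun h => hi2 h.2)]
        norm_num
    · obtain ⟨h5, h6⟩ := (af_spec i).1 hi
      have h7 : bc 2 σ (aa i) = x4 := by
        rw [← e4]
        refine bc_isConj σ (isConj_of_cube h5 (tp_cube _) ?_)
        rw [hcard 4]
        exact h6
      rw [h7, if_pos hi, if_neg (fun h => hi h.1), if_neg (fun h => hi h.1)]
      norm_num
  rw [Finset.sum_congr rfl fun i _ => hval i, Finset.sum_add_distrib, Finset.sum_add_distrib, ← Finset.mul_sum,
    ← Finset.mul_sum, ← Finset.mul_sum, Finset.sum_boole, Finset.sum_boole, Finset.sum_boole, aa_count.1,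
    aa_count.2.1, aa_count.2.2, Fintype.card_prod, Fintype.card_fin, Fintype.card_fin] at hd
  have k4 : 104 + 26 * x4 = d * 39 := by
    have : ((104 + 26 * x4 : ℤ) : ℂ) = ((d * 39 : ℤ) : ℂ) := by
      push_cast at hd ⊢
      linear_combination hd
    exact_mod_cast this
  -- `3 ^ 4`
  have hX' : ∀ v, bc 2 σ (ta v) = bc 2 σ (ta (rf (wt v))) := fun v => bc_isConj σ (ta_conj v)
  obtain ⟨d', hd'⟩ := fix_family hM hV σ ta ta_inj ⟨_, ta_zero⟩ (fun i j => ⟨_, ta_mul i j⟩) (by decide)
  rw [Finset.sum_congr rfl fun v _ => hX' v, sum_wt wt wt_lt _ count_wt (fun w => bc 2 σ (ta (rf w)))] at hd'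
  obtain ⟨d'', hd''⟩ := fix_family hM hV σ (fun v => ta (e3 v)) (ta_inj.comp e3_inj) ⟨0, by
      rw [← ta_zero]
      exact congrArg ta (by decide)⟩
    (fun i j => ⟨j + i, by rw [ta_mul, e3_add]⟩) (by decide)
  rw [Finset.sum_congr rfl fun v _ => hX' (e3 v), sum_wt (fun v => wt (e3 v)) (fun v => wt_lt _) _ count_wt3
    (fun w => bc 2 σ (ta (rf w)))] at hd''
  have hsum : ∀ c : Fin 5 → ℕ, ∑ k : Fin 5, (c k : ℂ) * bc 2 σ (ta (rf k)) =
      (((c 0 : ℤ) * 56 + c 1 * x1 + c 2 * x2 + c 3 * x3 + c 4 * x4 : ℤ) : ℂ) := by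
    intro c
    rw [Fin.sum_univ_five]
    have f0 : bc 2 σ (ta (rf ((0 : Fin 5) : ℕ))) = 56 := e0
    rw [f0, e1, e2, e3', e4]
    push_cast
    ring
  rw [hsum] at hd' hd''
  have hE : 56 + 8 * x1 + 24 * x2 + 32 * x3 + 16 * x4 = d' * 81 := by
    have h5 : ((((![1, 8, 24, 32, 16] : Fin 5 → ℕ) 0 : ℤ) * 56 + (![1, 8, 24, 32, 16] : Fin 5 → ℕ) 1 * x1 +
        (![1, 8, 24, 32, 16] : Fin 5 → ℕ) 2 * x2 + (![1, 8, 24, 32, 16] : Fin 5 → ℕ) 3 * x3 +
        (![1, 8, 24, 32, 16] : Fin 5 → ℕ) 4 * x4 : ℤ)) = d' * (Fintype.card (Fin 4 → Fin 3) : ℤ) := by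
      exact_mod_cast hd'
    have h6 : Fintype.card (Fin 4 → Fin 3) = 81 := by decide
    rw [h6] at h5
    simpa using h5
  have hE3 : 56 + 6 * x1 + 12 * x2 + 8 * x3 = d'' * 27 := by
    have h5 : ((((![1, 6, 12, 8, 0] : Fin 5 → ℕ) 0 : ℤ) * 56 + (![1, 6, 12, 8, 0] : Fin 5 → ℕ) 1 * x1 +
        (![1, 6, 12, 8, 0] : Fin 5 → ℕ) 2 * x2 + (![1, 6, 12, 8, 0] : Fin 5 → ℕ) 3 * x3 +
        (![1, 6, 12, 8, 0] : Fin 5 → ℕ) 4 * x4 : ℤ)) = d'' * (Fintype.card (Fin 3 → Fin 3) : ℤ) := by
      exact_mod_cast hd''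
    have h6 : Fintype.card (Fin 3 → Fin 3) = 27 := by decide
    rw [h6] at h5
    simpa using h5
  -- the elements `x` and `y`
  have cube : ∀ {g : alternatingGroup (Fin 13)} {k : ℕ}, (g : Perm (Fin 13)).cycleType = Multiset.replicate k 3 →
      (g : Perm (Fin 13)) ^ 3 = 1 ∧ (g : Perm (Fin 13)).support.card = 3 * k := by
    intro g k hg
    refine ⟨pow_prime_eq_one_iff.2 fun c hc => ?_, ?_⟩
    · rw [hg] at hc
      exact Multiset.eq_of_mem_replicate hc
    · rw [← (g : Perm (Fin 13)).sum_cycleType, hg, Multiset.sum_replicate, smul_eq_mul, mul_comm]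
  have hx' := cube (k := 4) hx
  have hy' := cube (k := 2) hy
  have hbx : bc 2 σ x = x4 := by
    rw [← e4]
    exact bc_isConj σ (isConj_of_cube hx'.1 (tp_cube _) (hx'.2.trans (hcard 4).symm))
  have hby : bc 2 σ y = x2 := by
    rw [← e2]
    exact bc_isConj σ (isConj_of_cube hy'.1 (tp_cube _) (hy'.2.trans (hcard 2).symm))
  rw [hbx, hby]
  rcases int_arith h1 h2 h3 h4 k1 k2 k4 hE hE3 with ⟨rfl, rfl⟩ | ⟨rfl, rfl⟩
  · left
    norm_num
  · right
    norm_num

/-- **T7**: generators `x`, `y` of `A₁₃` of order 3 with the values 2 and 20 (in some order) and `x * y` of order 13. -/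
theorem exists_pair (hM : IsPModular 2 M) (hV : Above M V)
    {σ : Representation (ResidueField V) (alternatingGroup (Fin 13)) (Fin 56 → ResidueField V)} (H : Vals σ) :
    ∃ x y : alternatingGroup (Fin 13), orderOf x = 3 ∧ orderOf y = 3 ∧ orderOf (x * y) = 13 ∧
      Subgroup.closure {x, y} = ⊤ ∧ bc 2 σ x = 2 ∧ bc 2 σ y = 20 ∧ bc 2 σ (x * y) = 4 := by
  obtain ⟨x, y, hx, hy, hxy, hcl⟩ := exists_gens
  have ord : ∀ {g : alternatingGroup (Fin 13)} {k : ℕ}, (g : Perm (Fin 13)).cycleType = Multiset.replicate (k + 1) 3 →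
      orderOf g = 3 := by
    intro g k hg
    have : Fact (Nat.Prime 3) := ⟨Nat.prime_three⟩
    refine orderOf_eq_prime (Subtype.ext (pow_prime_eq_one_iff.2 fun c hc => ?_)) ?_
    · rw [hg] at hc
      exact Multiset.eq_of_mem_replicate hc
    · rintro rfl
      rw [Subgroup.coe_one, cycleType_one] at hg
      have h1 := congrArg Multiset.card hg
      rw [Multiset.card_replicate] at h1
      simp at h1
  have hx3 : orderOf x = 3 := ord (k := 3) hx
  have hy3 : orderOf y = 3 := ord (k := 1) hy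
  rcases values hM hV H hx hy with ⟨h1, h2⟩ | ⟨h1, h2⟩
  · exact ⟨x, y, hx3, hy3, hxy, hcl, h1, h2, H.thirteen _ hxy⟩
  · have h3 : orderOf (y * x) = 13 := by
      have h4 := orderOf_injective (MulAut.conj x).toMonoidHom (MulAut.conj x).injective (y * x)
      have h5 : (MulAut.conj x).toMonoidHom (y * x) = x * y := by
        show x * (y * x) * x⁻¹ = x * y
        group
      rw [h5] at h4
      exact h4.symm.trans hxy
    refine ⟨y, x, hy3, hx3, h3, ?_, h2, h1, H.thirteen _ h3⟩
    rw [Set.pair_comm]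
    exact hcl

end Cfsg.Agent.H194.E7V
end

-- part: H540/E72/Row
section
/-!
# S5935: the rows `PSL₂(19)`, `PSL₂(27)`, `PSL₄(3)`, `A₁₃` reduced to `¬ AdmF`
-/

set_option autoImplicit false

namespace Cfsg.Agent.H540.E72

open Cfsg Cfsg.Lie Cfsg.Agent.H943.E7V Matrix

/-- a group which is not admissible is not a generalized Fitting subgroup of a subgroup of `E₇(2)` -/
theorem empty_of_not_adm {S : Type*} [Group S] (hS : ¬ Adm S) (H : Subgroup ↥(chevE7.group (ZMod 2))) :
    IsEmpty (↥(generalizedFittingSubgroup ↥H) ≃* S) :=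
  ⟨fun e => hS (AdmMain.adm.comap (H.subtype.comp ((generalizedFittingSubgroup ↥H).subtype.comp e.symm.toMonoidHom))
    (H.subtype_injective.comp ((Subgroup.subtype_injective _).comp e.symm.injective)))⟩

/-- the admissibility of a subgroup of a subgroup of `E₇(2)` -/
theorem adm_sub (H : Subgroup ↥(chevE7.group (ZMod 2))) (S : Subgroup ↥H) : Adm ↥S :=
  AdmMain.adm.comap (H.subtype.comp S.subtype) (H.subtype_injective.comp (Subgroup.subtype_injective _))

/-- `|Aut(PSL_n(q))|` in terms of `|PSL_n(q)|` -/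
theorem card_mulAut {F : Type*} [Field F] [Fintype F] (p f : ℕ) [Fact p.Prime] (hf : 1 ≤ f)
    (hF : Fintype.card F = p ^ f) (n : ℕ) (hn : 2 ≤ n) (h2 : n = 2 → 4 ≤ p ^ f) :
    Nat.card (MulAut (ProjectiveSpecialLinearGroup (Fin n) F)) =
      Nat.card (ProjectiveSpecialLinearGroup (Fin n) F) * ((if n = 2 then 1 else 2) * f * Nat.gcd n (p ^ f - 1)) := by
  rw [S0813.result p f hf hF n hn h2, H183.OutPSL.card_pgl_eq hn, hF]
  ring

theorem psl_nonab {F : Type*} [Field F] [Fintype F] {n : ℕ} (hn : 2 ≤ n) (h4 : n = 2 → 4 ≤ Fintype.card F) :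
    ¬ IsMulCommutative (ProjectiveSpecialLinearGroup (Fin n) F) := by
  intro h
  have h1 := H183.OutPSL.center_psl (F := F) hn h4
  have h2 : Subgroup.center (ProjectiveSpecialLinearGroup (Fin n) F) = ⊤ := by
    rw [Subgroup.eq_top_iff']
    intro g
    rw [Subgroup.mem_center_iff]
    intro k
    exact h.is_comm.comm k g
  have := H183.OutPSL.simple_psl (F := F) hn h4
  exact bot_ne_top (h1.symm.trans h2)

/-- `PSL₂(19)` is not the generalized Fitting subgroup of a maximal subgroup of `E₇(2)` -/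
theorem row_l2_19 {F : Type*} [Field F] [Fintype F] (hF : Fintype.card F = 19)
    (H : Subgroup ↥(chevE7.group (ZMod 2))) (hH : IsCoatom H) :
    IsEmpty (↥(generalizedFittingSubgroup ↥H) ≃* ProjectiveSpecialLinearGroup (Fin 2) F) := by
  refine ⟨fun e => ?_⟩
  have : Fact (Nat.Prime 19) := ⟨by norm_num⟩
  have h4 : 2 = 2 → 4 ≤ Fintype.card F := fun _ => by rw [hF]; norm_num
  have := H183.OutPSL.simple_psl (F := F) (le_refl 2) h4
  have hm := card_mulAut (F := F) 19 1 (le_refl 1) (by rw [hF]; norm_num) 2 (le_refl 2) (fun _ => by norm_num)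
  have hc := S0243.result hF 2 (le_refl 2)
  have hA : AdmF (ProjectiveSpecialLinearGroup (Fin 2) F) := by
    refine Max.admF_two (m := 2) (k := 1) (psl_nonab (le_refl 2) h4) ?_ (by norm_num) ?_ H hH e
    · rw [hm]; norm_num
    · norm_num [Fin.prod_univ_two] at hc ⊢
      omega
  obtain ⟨x, y, hx, hy, hxy, -, hcl⟩ := H61.E7.l2_nineteen hF
  exact Scott.not_255 hA hx hy hxy hcl

theorem card_mulAut_alt {n : ℕ} (hn : 5 ≤ n) (h6 : n ≠ 6) :
    Nat.card (MulAut ↥(alternatingGroup (Fin n))) = Nat.card ↥(alternatingGroup (Fin n)) * 2 := by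
  rw [← Nat.card_congr (Equiv.ofBijective _ (S2119.result n (by omega) h6))]
  have : Nontrivial (Fin n) := Fin.nontrivial_iff_two_le.2 (by omega)
  rw [mul_comm, nat_card_alternatingGroup, Nat.card_perm, Nat.card_fin]
  have h2 : 2 ∣ n.factorial := Nat.dvd_factorial (by norm_num) (by omega)
  omega

/-- `A₁₃` is not the generalized Fitting subgroup of a maximal subgroup of `E₇(2)` -/
theorem row_a13 (H : Subgroup ↥(chevE7.group (ZMod 2))) (hH : IsCoatom H) :
    IsEmpty (↥(generalizedFittingSubgroup ↥H) ≃* ↥(alternatingGroup (Fin 13))) := by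
  refine ⟨fun e => ?_⟩
  have := alternatingGroup.isSimpleGroup (α := Fin 13) (by simp)
  have hna : ¬ IsMulCommutative ↥(alternatingGroup (Fin 13)) := by
    intro h
    have h1 := h.is_comm.comm (⟨Equiv.swap 0 1 * Equiv.swap 0 2, by
      rw [Equiv.Perm.mem_alternatingGroup]; decide +kernel⟩ : alternatingGroup (Fin 13))
      ⟨Equiv.swap 0 1 * Equiv.swap 0 3, by rw [Equiv.Perm.mem_alternatingGroup]; decide +kernel⟩
    have h2 := congrArg (fun g : alternatingGroup (Fin 13) => (g : Equiv.Perm (Fin 13)) 0) h1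
    revert h2
    decide +kernel
  have hm := card_mulAut_alt (n := 13) (by norm_num) (by norm_num)
  have hA : AdmF ↥(alternatingGroup (Fin 13)) := by
    refine Max.admF_two (m := 2) (k := 1) hna hm (by norm_num) ?_ H hH e
    rw [← hm, ← Nat.card_congr (Equiv.ofBijective _ (S2119.result 13 (by norm_num) (by norm_num))), Nat.card_perm,
      Nat.card_fin]
    norm_num [Nat.factorial]
  obtain ⟨M, V, hM, hV, σ, hv, h1, h2⟩ := hA
  obtain ⟨x, y, hx, hy, hxy, hcl, hbx, hby, -⟩ := H194.E7V.exists_pair hM hV hv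
  exact Scott.not_3_3_13 hM hV hv h1 h2 hx hy hxy (Or.inl ⟨hbx, hby⟩) hcl

end Cfsg.Agent.H540.E72
end

private theorem dce_6352dca49dae : _root_.True := by
  try have : _root_.True := by simp only [_root_.Cfsg.IsPRegular.eq_1]
  exact _root_.True.intro
end
end
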